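import Cfsg.Agent.KFacts.J3Sheet
import Cfsg.Agent.KFacts.J3
import Cfsg.Agent.H291.Parity

/-!
# `J_3` : an outer involutory automorphism fixes no element of order five (helper300)
-/

set_option autoImplicit false

namespace Cfsg.Agent.H300.OuterJThree

open Subgroup Cfsg Cfsg.Agent
open Cfsg.Agent.J2Type.Model Cfsg.Agent.J2Type.CStruct Cfsg.Agent.J2Type.SPFacts
open Cfsg.Agent.J3Type.OneClass
open Cfsg.Agent.KFacts.J3Sheet Cfsg.Agent.KFacts

universe u

theorem aux_five : ∀ τ : Equiv.Perm (Fin 5), τ ^ 5 = 1 ∧ τ ≠ 1 → ∀ σ : Equiv.Perm (Fin 5), σ * τ = τ * σ →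
    Equiv.Perm.sign σ = 1 := by
  decide +kernel

section

variable {K : Type u} [Group K] {z : K} {Q : Subgroup (centralizer ({z} : Set K))}
  {v : Fin 5 → centralizer ({z} : Set K)} {ρ : centralizer ({z} : Set K) →* SP}

theorem permOf_unique (M : IsModel Q (zc z) v ρ) {α : MulAut K} {σ τ : Equiv.Perm (Fin 5)} (h1 : PermOf v α σ)
    (h2 : PermOf v α τ) : σ = τ := by
  ext i
  congr 1
  have h3 := eqz_rho M (eqz_trans M (eqz_symm M (h1 i)) (h2 i))
  rw [rho_v M, rho_v M] at h3
  exact aux_ind _ _ (congrArg SP.s h3)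

theorem permOf_conj (M : IsModel Q (zc z) v ρ) (c : centralizer ({z} : Set K)) :
    PermOf v (MulAut.conj (c : K)) (ρ c).σ := by
  intro i
  have h1 := M.conj c i
  have h2 := eqz_zp M ((ρ c).s i) (v ((ρ c).σ i))
  rw [← h1] at h2
  exact h2

/-- an outer automorphism fixing `z` fixes no element of order five of `C(z)` -/
theorem aux [Finite K] (hc : Nat.card (centralizer ({z} : Set K)) = 1920) (M : IsModel Q (zc z) v ρ) {n₀ : K}
    (hin : n₀ * z * n₀⁻¹ ∈ Q.map (centralizer ({z} : Set K)).subtype) (hnz : n₀ * z * n₀⁻¹ ≠ z)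
    (hgen : closure ({c : K | c * z = z * c} ∪ {n₀}) = ⊤) {α : MulAut K} (hα : α z = z)
    (hout : ¬ ∃ k, α = MulAut.conj k) {w : K} (hw : α w = w) (hwz : w * z = z * w) (h5 : orderOf w = 5) : False := by
  obtain ⟨σ, hσ⟩ := exists_perm hc M hα
  set c : centralizer ({z} : Set K) := ⟨w, mem_centralizer_singleton_iff.2 hwz⟩ with hcdef
  have h1 := permOf_conj M c
  have hcz : (MulAut.conj w : MulAut K) z = z := by
    rw [MulAut.conj_apply, hwz, mul_inv_cancel_right]
  have h2 := permOf_mul M hα hσ h1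
  have h3 := permOf_mul M hcz h1 hσ
  have h4 : α * MulAut.conj w = MulAut.conj w * α := by
    ext y
    change α (w * y * w⁻¹) = w * α y * w⁻¹
    rw [map_mul, map_mul, map_inv, hw]
  have h5' : σ * (ρ c).σ = (ρ c).σ * σ := by
    apply permOf_unique M h2
    rw [show α * MulAut.conj (c : K) = MulAut.conj (c : K) * α from h4]
    exact h3
  have hc5 : c ^ 5 = 1 := by
    apply Subtype.ext
    rw [Subgroup.coe_pow]
    change w ^ 5 = 1
    rw [← h5, pow_orderOf_eq_one]
  have h6 : (ρ c).σ ^ 5 = 1 := by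
    have h7 : ∀ n : ℕ, (ρ (c ^ n)).σ = (ρ c).σ ^ n := by
      intro n
      induction n with
      | zero => rw [pow_zero, map_one, pow_zero]; rfl
      | succ n ih => rw [pow_succ, map_mul, mul_σ, ih, pow_succ]
    rw [← h7, hc5, map_one]
    rfl
  have h7 : (ρ c).σ ≠ 1 := by
    intro h8
    have h9 : ∀ i, c * v i * c⁻¹ = zp (zc z) ((ρ c).s i) * v i := by
      intro i
      have := M.conj c i
      rw [h8] at this
      exact this
    have hzc : ∀ a : ZMod 2, c * zp (zc z) a = zp (zc z) a * c := by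
      intro a
      unfold zp
      split_ifs
      · rw [mul_one, one_mul]
      · exact Subtype.ext hwz
    have hzz : ∀ a : ZMod 2, zp (zc z) a * zp (zc z) a = 1 := by
      intro a
      unfold zp
      split_ifs
      · rw [mul_one]
      · exact M.z_sq
    have h10 : ∀ i, (c * c) * v i = v i * (c * c) := by
      intro i
      have h11 : c * v i = zp (zc z) ((ρ c).s i) * v i * c := by rw [← h9]; group
      calc c * c * v i = c * (c * v i) := by group
        _ = (c * zp (zc z) ((ρ c).s i)) * v i * c := by rw [h11]; group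
        _ = zp (zc z) ((ρ c).s i) * (c * v i) * c := by rw [hzc]; group
        _ = (zp (zc z) ((ρ c).s i) * zp (zc z) ((ρ c).s i)) * v i * c * c := by rw [h11]; group
        _ = v i * (c * c) := by rw [hzz, one_mul, mul_assoc]
    have h12 : c ^ 4 = 1 := by
      have e : c ^ 4 = (c * c) * (c * c) := by rw [pow_succ, pow_succ, pow_succ, pow_one, mul_assoc (c * c)]
      rcases QMinus.cent_Q M h10 with h13 | h13
      · rw [e, h13, one_mul]
      · rw [e, h13]
        exact M.z_sq
    have h13 : orderOf c ∣ 4 := orderOf_dvd_of_pow_eq_one h12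
    rw [← Subgroup.orderOf_coe] at h13
    change orderOf w ∣ 4 at h13
    rw [h5] at h13
    omega
  exact hout (inner_of_even hc M hin hnz hgen hα hσ (aux_five _ ⟨h6, h7⟩ _ h5'))

end

/-- **an outer involutory automorphism of `J_3` fixes no element of order five** -/
theorem no_five {X : Type u} [Group X] (h : Spor.IsoJ3 X) {x : MulAut X} (hxx : x * x = 1)
    (hout : ¬ ∃ g, x = MulAut.conj g) {w : X} (hw : x w = w) (h5 : orderOf w = 5) : False := by
  obtain ⟨-, z, Q, v, ρ, n, u, F⟩ := KFacts.J3.exists_facts h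
  have hcK := F.card_K
  have hfin : Finite X := Nat.finite_of_card_ne_zero (by rw [hcK]; norm_num)
  have hzz : z * z = 1 := congrArg Subtype.val F.model.z_sq
  have hz1 : z ≠ 1 := fun h1 => F.model.z_ne (Subtype.ext h1)
  have hz2 : orderOf z = 2 := orderOf_eq_prime (by rw [pow_two, hzz]) hz1
  have h1 := H291.Parity.even_cent_of_small (by norm_num : Nat.Prime 5) (by rw [hcK]; norm_num) hz2
    (by rw [F.card_C]; norm_num) h5
  obtain ⟨t, ht2, hxt, htw⟩ := H291.Parity.exists_comm_invo x hxx hw h1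
  obtain ⟨g, hg⟩ := F.one t (fun h2 => by rw [h2, orderOf_one] at ht2; omega)
    (by rw [← pow_two, ← ht2, pow_orderOf_eq_one])
  have hβ : ∀ y, (MulAut.conj g⁻¹ * x * (MulAut.conj g⁻¹)⁻¹) y = g⁻¹ * x (g * y * g⁻¹) * g := by
    intro y
    rw [← map_inv, inv_inv]
    change g⁻¹ * x (g * y * g⁻¹) * g⁻¹⁻¹ = _
    rw [inv_inv]
  refine aux F.card_C F.model (n₀ := n) ?_ ?_ F.gen (α := MulAut.conj g⁻¹ * x * (MulAut.conj g⁻¹)⁻¹) ?_ ?_
    (w := g⁻¹ * w * g) ?_ ?_ ?_
  · rw [F.nz]
    exact ⟨v 0, F.model.v_mem 0, rfl⟩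
  · rw [F.nz]
    intro h1
    apply zv_ne_z F.model 0 0
    rw [zp_zero, one_mul]
    exact Subtype.ext h1
  · rw [hβ, hg, hxt, ← hg]; group
  · rintro ⟨k, hk⟩
    apply hout
    refine ⟨g * k * g⁻¹, ?_⟩
    rw [map_mul, map_mul, ← hk, map_inv]
    group
  · rw [hβ]
    have h5 : g * (g⁻¹ * w * g) * g⁻¹ = w := by group
    rw [h5, hw]
  · have h5 : z = g⁻¹ * t * g := by rw [← hg]; group
    rw [h5]
    calc g⁻¹ * w * g * (g⁻¹ * t * g) = g⁻¹ * (w * t) * g := by group
      _ = g⁻¹ * (t * w) * g := by rw [htw]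
      _ = _ := by group
  · rw [← h5]
    have h6 : g⁻¹ * w * g = MulAut.conj g⁻¹ w := by
      rw [MulAut.conj_apply, inv_inv]
    rw [h6]
    exact MulEquiv.orderOf_eq (MulAut.conj g⁻¹) w

end Cfsg.Agent.H300.OuterJThree
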