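import Mathlib
import Cfsg.Agent.H284.RankFix
import Cfsg.Agent.H284.CharTwoComp
import Cfsg.Agent.H292.Out

/-!
# Components of `C_X(x)` with dihedral Sylow 2-subgroups of order 8: tools (helper300)

* `D8 A` : the Sylow 2-subgroups of `A` are dihedral of order 8;
* `NoFour E` : `E` has no element of order 4;
* `Core.embed`, `Core.derived` : complements to `H292.Out`;
* `rank_of_four` : `A ⊴ C_X(x)`, `C(A) = 1`, `A ≅ P`, `V ≤ P` a four-group such that the automorphisms fixing `V`
  elementwise are induced by `V`: sectional 2-rank at most 4.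
-/

set_option autoImplicit false

namespace Cfsg.Agent.H300.D8Base

open Subgroup Cfsg Cfsg.Agent.H292.Out Cfsg.Agent.H284.CharTwoComp

universe u v w

/-- The Sylow 2-subgroups are dihedral of order 8. -/
def D8 (A : Type*) [Group A] : Prop := ∀ S : Sylow 2 A, Nonempty (↥(S : Subgroup A) ≃* DihedralGroup 4)

theorem D8.congr {A B : Type*} [Group A] [Group B] (e : A ≃* B) (h : D8 A) : D8 B := by
  intro S
  let T : Sylow 2 A := S.comapOfInjective e.toMonoidHom e.injective (by
    rw [MonoidHom.range_eq_top.2 e.surjective]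
    exact le_top)
  obtain ⟨f⟩ := h T
  have h1 : ((T : Subgroup A)).map e.toMonoidHom = (S : Subgroup B) := by
    change ((S : Subgroup B).comap e.toMonoidHom).map e.toMonoidHom = _
    exact map_comap_eq_self_of_surjective e.surjective _
  exact ⟨((MulEquiv.subgroupCongr h1.symm).trans (equivMapOfInjective _ e.toMonoidHom e.injective).symm).trans f⟩

theorem D8.card_sylow {A : Type*} [Group A] [Finite A] (h : D8 A) (S : Sylow 2 A) : Nat.card ↥(S : Subgroup A) = 8 := by
  obtain ⟨e⟩ := h S
  rw [Nat.card_congr e.toEquiv, DihedralGroup.nat_card]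

theorem D8.not_dvd {A : Type*} [Group A] [Finite A] (h : D8 A) : ¬ 16 ∣ Nat.card A := by
  have : Fact (Nat.Prime 2) := ⟨Nat.prime_two⟩
  intro h16
  obtain ⟨H, hH⟩ := Sylow.exists_subgroup_card_pow_prime 2 (n := 4) (G := A) (by norm_num; exact h16)
  obtain ⟨S, hS⟩ := (IsPGroup.of_card hH).exists_le_sylow
  have h1 := card_dvd_of_le hS
  rw [hH, h.card_sylow S] at h1
  norm_num at h1

theorem D8.dvd {A : Type*} [Group A] [Finite A] (h : D8 A) : 8 ∣ Nat.card A := by
  have S : Sylow 2 A := default
  rw [← h.card_sylow S]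
  exact card_subgroup_dvd_card _

/-- no elements of order four -/
def NoFour (E : Type*) [Group E] : Prop := ∀ g : E, g ^ 4 = 1 → g ^ 2 = 1

theorem NoFour.of_injective {A E : Type*} [Group A] [Group E] (h : NoFour E) (f : A →* E)
    (hf : Function.Injective f) : NoFour A := by
  intro g hg
  apply hf
  rw [map_pow, map_one]
  apply h
  rw [← map_pow, hg, map_one]

theorem D8.not_noFour {A : Type*} [Group A] (h : D8 A) : ¬ NoFour A := by
  intro h4
  obtain ⟨e⟩ := h default
  have h1 := h4.of_injective (((default : Sylow 2 A) : Subgroup A).subtype.comp e.symm.toMonoidHom)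
    ((subtype_injective _).comp e.symm.injective)
  have h2 := h1 (DihedralGroup.r 1) (by decide)
  revert h2
  decide

theorem D8.nontrivial {A : Type*} [Group A] (h : D8 A) : Nontrivial A := by
  by_contra hn
  rw [not_nontrivial_iff_subsingleton] at hn
  exact h.not_noFour fun g _ => Subsingleton.elim _ _

/-! ### `Core` -/

section core

variable {K : Type u} [Group K] {x : MulAut K} {E : Type w} [Group E]

theorem core_embed (h : Core x E) {A : Subgroup ↥(fixedSubgroup x)} (hA : IsComponent A) :
    ∃ g : ↥A →* E, Function.Injective g := by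
  obtain ⟨f, h1, h2, k, h3⟩ := h
  have hN : f.range ≤ fixedSubgroup x := by
    rintro _ ⟨e, rfl⟩
    exact h2 e
  let e1 : E ≃* ↥(f.range.subgroupOf (fixedSubgroup x)) :=
    (MonoidHom.ofInjective h1).trans (subgroupOfEquivOfLe hN).symm
  have hAN : A ≤ f.range.subgroupOf (fixedSubgroup x) := (le_derived hA.2 k).trans h3
  exact ⟨e1.symm.toMonoidHom.comp (inclusion hAN), e1.symm.injective.comp (inclusion_injective hAN)⟩

theorem core_derived (h : Core x E) : Core x ↥(commutator E) := by
  obtain ⟨f, h1, h2, k, h3⟩ := h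
  refine ⟨f.comp (commutator E).subtype, h1.comp (subtype_injective _), fun e => h2 _, k + 1, ?_⟩
  have h4 : (f.comp (commutator E).subtype).range = ⁅f.range, f.range⁆ := by
    rw [MonoidHom.range_comp, range_subtype, commutator_def, map_commutator, ← MonoidHom.range_eq_map]
  rw [h4, derivedSeries_succ]
  have hN : f.range ≤ fixedSubgroup x := by
    rintro _ ⟨e, rfl⟩
    exact h2 e
  refine (commutator_mono h3 h3).trans ?_
  rw [commutator_le]
  intro a ha b hb
  exact commutator_mem_commutator (mem_subgroupOf.1 ha) (mem_subgroupOf.1 hb)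

/-- solvable cores -/
theorem core_no_solv (h : Core x E) (hs : Group.IsSolvable E) {A : Subgroup ↥(fixedSubgroup x)} (hA : IsComponent A) :
    False := by
  obtain ⟨g, hg⟩ := core_embed h hA
  exact SignalizersComponents.Components.quasisimple_not_isSolvable hA.2 (Group.isSolvable_of_isSolvable_injective hg)

end core

/-- involutory automorphisms with a central involution in the fixed points -/
theorem no_comp_cen {K : Type u} [Group K] [Finite K] (h : ACT K) {x : MulAut K} (hx : x ^ 2 = 1) (hc : Cen x)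
    {A : Subgroup ↥(fixedSubgroup x)} (hA : IsComponent A) : False := by
  obtain ⟨z, h1, h2, h3, h4⟩ := hc
  obtain ⟨-, -, h5, -⟩ := of_fix h (by rw [← pow_two, hx]) hA
  have h6 : (⟨z, h3⟩ : ↥(fixedSubgroup x)) ∈ centralizer (A : Set ↥(fixedSubgroup x)) := by
    rw [mem_centralizer_iff]
    rintro ⟨y, hy⟩ -
    exact Subtype.ext (h4 y hy)
  rw [h5, mem_bot] at h6
  exact h1 (congrArg Subtype.val h6)

/-! ### the rank lemma -/

/-- a four-group such that the automorphisms fixing it elementwise are induced by it -/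
def Tight (P : Type*) [Group P] : Prop := ∃ V : Subgroup P, (∀ a ∈ V, ∀ b ∈ V, a * b = b * a) ∧
  (∀ a ∈ V, a * a = 1) ∧ Nat.card ↥V = 4 ∧ ∀ y : MulAut P, (∀ v ∈ V, y v = v) → ∃ a ∈ V, y = MulAut.conj a

theorem rank_of_four {X : Type u} [Group X] [Finite X] {x : MulAut X} (hxx : x * x = 1) (hx1 : x ≠ 1)
    {A : Subgroup ↥(fixedSubgroup x)} (hn : A.Normal) (hc : centralizer (A : Set ↥(fixedSubgroup x)) = ⊥)
    {P : Type*} [Group P] (hP : Tight P) (e : ↥A ≃* P) : SectionalPRankLE 2 4 X := by
  obtain ⟨V, h1, h2, h3, h4⟩ := hP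
  let i : P →* X := (fixedSubgroup x).subtype.comp (A.subtype.comp e.symm.toMonoidHom)
  have hi : Function.Injective i := (subtype_injective _).comp ((subtype_injective _).comp e.symm.injective)
  refine H284.RankFix.rank_fix hxx hx1 (V.map i) ?_ ?_ ?_ ?_ ?_
  · rintro _ ⟨v, -, rfl⟩
    exact (A.subtype (e.symm v)).2
  · rintro _ ⟨a, ha, rfl⟩ _ ⟨b, hb, rfl⟩
    rw [← map_mul, h1 a ha b hb, map_mul]
  · rintro _ ⟨a, ha, rfl⟩
    rw [← map_mul, h2 a ha, map_one]
  · rw [card_map_of_injective hi]
    exact h3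
  · intro g hg hgv
    let g' : ↥(fixedSubgroup x) := ⟨g, hg⟩
    let c : MulAut P := (e.symm.trans (MulAut.conjNormal g' : MulAut ↥A)).trans e
    obtain ⟨a, ha, hac⟩ := h4 c (by
      intro v hv
      have h5 := hgv _ ⟨v, hv, rfl⟩
      have h6 : (MulAut.conjNormal g' : MulAut ↥A) (e.symm v) = e.symm v := by
        apply Subtype.ext
        rw [MulAut.conjNormal_apply]
        apply Subtype.ext
        change g * i v * g⁻¹ = i v
        rw [h5, mul_inv_cancel_right]
      change e ((MulAut.conjNormal g' : MulAut ↥A) (e.symm v)) = v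
      rw [h6, e.apply_symm_apply])
    refine ⟨a, ha, ?_⟩
    have h7 : ((e.symm a : ↥A) : ↥(fixedSubgroup x))⁻¹ * g' ∈ centralizer (A : Set ↥(fixedSubgroup x)) := by
      rw [mem_centralizer_iff]
      intro y hy
      have h8 : c (e ⟨y, hy⟩) = a * e ⟨y, hy⟩ * a⁻¹ := by rw [hac]; rfl
      have h9 : c (e ⟨y, hy⟩) = e ((MulAut.conjNormal g' : MulAut ↥A) ⟨y, hy⟩) := by
        change e ((MulAut.conjNormal g' : MulAut ↥A) (e.symm (e ⟨y, hy⟩))) = _
        rw [e.symm_apply_apply]
      rw [h9] at h8
      have h10 := congrArg (fun t => (e.symm t : ↥(fixedSubgroup x))) h8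
      simp only [e.symm_apply_apply, map_mul, map_inv, coe_mul, coe_inv] at h10
      rw [MulAut.conjNormal_apply] at h10
      change g' * y * g'⁻¹ = _ at h10
      have h11 : g' * y = ((e.symm a : ↥A) : ↥(fixedSubgroup x)) * y * ((e.symm a : ↥A) : ↥(fixedSubgroup x))⁻¹ * g' := by
        rw [← h10, inv_mul_cancel_right]
      rw [mul_assoc _ g' y, h11]
      group
    rw [hc, mem_bot, inv_mul_eq_one] at h7
    exact congrArg Subtype.val h7

end Cfsg.Agent.H300.D8Base
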