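import Cfsg.Agent.OddHalf.D6.Harada

/-!
# The sectional 2-rank of `A₈` is at most four (helper300)
-/

set_option autoImplicit false

namespace Cfsg.Agent.H300.RankAlt

open Subgroup Cfsg

/-- eight points -/
abbrev Pt : Type := Fin 3 → ZMod 2

theorem sign_add : ∀ a : Pt, Equiv.Perm.sign (Equiv.addRight a) = 1 := by decide +kernel

/-- the translations -/
def tr : Multiplicative Pt →* ↥(alternatingGroup Pt) where
  toFun a := ⟨Equiv.addRight (Multiplicative.toAdd a), by
    rw [Equiv.Perm.mem_alternatingGroup]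
    exact sign_add _⟩
  map_one' := by
    apply Subtype.ext
    ext x
    simp
  map_mul' a b := by
    apply Subtype.ext
    ext x
    simp only [toAdd_mul, Equiv.coe_addRight, coe_mul, Equiv.Perm.coe_mul, Function.comp_apply, Pi.add_apply]
    ring

theorem tr_apply (a : Multiplicative Pt) (x : Pt) : (tr a : Equiv.Perm Pt) x = x + Multiplicative.toAdd a := rfl

theorem rank_pt : SectionalPRankLE 2 4 ↥(alternatingGroup Pt) := by
  have : Fact (Nat.Prime 2) := ⟨Nat.prime_two⟩
  have hinj : Function.Injective tr := by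
    intro a b h
    have h1 := congrArg (fun t : ↥(alternatingGroup Pt) => (t : Equiv.Perm Pt) 0) h
    simp only [tr_apply, zero_add] at h1
    exact h1
  have hcard : Nat.card ↥(tr.range) = 8 := by
    rw [← Nat.card_congr (MonoidHom.ofInjective hinj).toEquiv, Nat.card_eq_fintype_card]
    rfl
  obtain ⟨S, hS⟩ := (IsPGroup.of_card (p := 2) (n := 3) (by rw [hcard]; norm_num)).exists_le_sylow
  refine OddHalf.D6.Harada.rank_of_self S tr.range hS ?_ ?_ hcard ?_
  · rintro _ ⟨a, rfl⟩ _ ⟨b, rfl⟩
    rw [← map_mul, ← map_mul, mul_comm]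
  · rintro _ ⟨a, rfl⟩
    rw [← map_mul]
    have h1 : a * a = 1 := by
      change Multiplicative.ofAdd (Multiplicative.toAdd a + Multiplicative.toAdd a) = Multiplicative.ofAdd 0
      congr 1
      ext i
      exact CharTwo.add_self_eq_zero _
    rw [h1, map_one]
  · intro s _ hs
    refine ⟨Multiplicative.ofAdd ((s : Equiv.Perm Pt) 0), ?_⟩
    apply Subtype.ext
    ext x : 1
    have h1 := congrArg (fun t : ↥(alternatingGroup Pt) => (t : Equiv.Perm Pt) 0) (hs _ ⟨Multiplicative.ofAdd x, rfl⟩)
    simp only [coe_mul, Equiv.Perm.coe_mul, Function.comp_apply, tr_apply, toAdd_ofAdd, zero_add] at h1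
    rw [tr_apply, toAdd_ofAdd, h1, add_comm]

/-- **`A₈` has sectional 2-rank at most four.** -/
theorem rank_eight : SectionalPRankLE 2 4 ↥(alternatingGroup (Fin 8)) := by
  have e : Pt ≃ Fin 8 := Fintype.equivFinOfCardEq (by simp [Pt])
  exact GH.Rank.of_injective rank_pt (e.symm.altCongrHom).toMonoidHom (e.symm.altCongrHom).injective

end Cfsg.Agent.H300.RankAlt
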