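import Cfsg.Agent.H300.D8Base
import Cfsg.Agent.S0483
import Cfsg.Agent.SmallSimple.PSLTwoPart
import Cfsg.Agent.SignalizersComponents.Components

/-!
# Quasisimple groups with dihedral Sylow 2-subgroups of order 8 (helper300)

* `gw` : `A / Z(A)` is `L₂(q)`, `q` odd, `q > 3`, or `A₇`;
* `three_dvd` : 3 divides the order.
-/

set_option autoImplicit false

namespace Cfsg.Agent.H300.D8GW

open Subgroup Cfsg Cfsg.Agent.H300.D8Base

variable {A : Type*} [Group A] [Finite A]

theorem gw0 (hq : IsQuasisimple A) (hD : D8 A) :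
    (∃ (F : Type) (_ : Field F) (_ : Fintype F), Odd (Fintype.card F) ∧ 3 < Fintype.card F ∧
        Nonempty (A ⧸ oddCore A ≃* Matrix.ProjectiveSpecialLinearGroup (Fin 2) F)) ∨
      Nonempty (A ⧸ oddCore A ≃* alternatingGroup (Fin 7)) := by
  have := hq.1
  exact S0483.result default 4 (by norm_num) (hD default)

theorem core_eq (hq : IsQuasisimple A) (hZ : Odd (Nat.card ↥(center A))) (hD : D8 A) : oddCore A = center A := by
  have hZn : center A ≤ oddCore A := by
    refine Lib.Cores.le_pPrimeCore (p := 2) inferInstance ?_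
    exact hZ.coprime_two_right
  have hev : 2 ∣ Nat.card A := (by norm_num : 2 ∣ 8).trans hD.dvd
  have hn : (oddCore A).Normal := Lib.Cores.pPrimeCore_normal 2
  have hne : oddCore A ≠ ⊤ := by
    intro h
    have h1 : Odd (Nat.card ↥(oddCore A)) := Nat.coprime_two_right.1 (Lib.Cores.pPrimeCore_coprime 2)
    rw [h, Nat.card_congr (topEquiv (G := A)).toEquiv] at h1
    exact Nat.not_even_iff_odd.2 h1 (even_iff_two_dvd.2 hev)
  rcases SignalizersComponents.Components.quasisimple_normal hq (oddCore A) hn with h | h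
  · exact absurd h hne
  · exact le_antisymm h hZn

theorem gw (hq : IsQuasisimple A) (hZ : Odd (Nat.card ↥(center A))) (hD : D8 A) :
    (∃ (F : Type) (_ : Field F) (_ : Fintype F), Odd (Fintype.card F) ∧ 3 < Fintype.card F ∧
        Nonempty (A ⧸ center A ≃* Matrix.ProjectiveSpecialLinearGroup (Fin 2) F)) ∨
      Nonempty (A ⧸ center A ≃* alternatingGroup (Fin 7)) := by
  have hn : (oddCore A).Normal := Lib.Cores.pPrimeCore_normal 2
  have e := QuotientGroup.quotientMulEquivOfEq (core_eq hq hZ hD)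
  rcases gw0 hq hD with ⟨F, i1, i2, ho, h3, ⟨f⟩⟩ | ⟨⟨f⟩⟩
  · exact Or.inl ⟨F, i1, i2, ho, h3, ⟨e.symm.trans f⟩⟩
  · exact Or.inr ⟨e.symm.trans f⟩

theorem three_psl {F : Type*} [Field F] [Fintype F] (h : Odd (Fintype.card F)) :
    3 ∣ Nat.card (Matrix.ProjectiveSpecialLinearGroup (Fin 2) F) := by
  have h1 := SmallSimple.PSLTwoPart.card_psl_two_odd h
  have hq : 1 < Fintype.card F := Fintype.one_lt_card
  have h2 : 3 ∣ Fintype.card F * (Fintype.card F ^ 2 - 1) := by
    generalize Fintype.card F = q at hq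
    obtain ⟨k, rfl⟩ : ∃ k, q = k + 1 := ⟨q - 1, by omega⟩
    have h3 : (k + 1) ^ 2 - 1 = k * (k + 2) := by
      rw [Nat.sub_eq_iff_eq_add (by nlinarith)]
      ring
    rw [h3]
    have h4 : k % 3 = 0 ∨ k % 3 = 1 ∨ k % 3 = 2 := by omega
    apply Nat.dvd_of_mod_eq_zero
    rcases h4 with h4 | h4 | h4 <;> simp [Nat.mul_mod, Nat.add_mod, h4]
  rw [← h1] at h2
  exact (Nat.Coprime.dvd_of_dvd_mul_left (by norm_num) h2)

theorem three_dvd (hq : IsQuasisimple A) (hD : D8 A) : 3 ∣ Nat.card A := by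
  have h1 : Nat.card (A ⧸ oddCore A) ∣ Nat.card A := card_quotient_dvd_card _
  refine Dvd.dvd.trans ?_ h1
  rcases gw0 hq hD with ⟨F, i1, i2, ho, -, ⟨e⟩⟩ | ⟨⟨e⟩⟩
  · rw [Nat.card_congr e.toEquiv]
    exact three_psl ho
  · rw [Nat.card_congr e.toEquiv, nat_card_alternatingGroup, Nat.card_eq_fintype_card, Fintype.card_fin]
    decide

end Cfsg.Agent.H300.D8GW
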