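import Cfsg.Agent.H291.RowsI
import Cfsg.Agent.EvenType.ChevTwoTits
import Cfsg.Agent.H300.D8GW
import Cfsg.Agent.H300.KillLem

/-!
# Components with Sylow 2-subgroups `D_8` of the involution centralizers of the sporadic groups (helper300)

`inner` : `K` a component of `C_X(z)`, `X` sporadic or the Tits group, with Sylow 2-subgroups `D_8` and a centre of odd
order: `X = HS` and `K = A_6`.
-/

set_option autoImplicit false

namespace Cfsg.Agent.H300.SporIn

open Subgroup Cfsg
open Cfsg.Agent.H287 Cfsg.Agent.NotCT Cfsg.Agent.CTwoTab Cfsg.Agent.H291 Cfsg.Agent.H291.RowsI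
open Cfsg.Agent.H300.D8Base Cfsg.Agent.OrdDiv

universe u v

variable {X : Type u} [Group X] [Finite X] {z : X} {K : Subgroup X}

/-- a row -/
theorem row_of {S : ℕ → ℕ → Prop} (h : CompCard S X) (hS : ∀ a b, S a b → 8 ∣ a → ¬ 16 ∣ a → False)
    (hz : orderOf z = 2) (hK : IsComponentOf K (centralizer ({z} : Set X))) (hD : D8 ↥K) : False :=
  hS _ _ (h z hz K hK) hD.dvd hD.not_dvd

theorem row_fix {S : ℕ → ℕ → Prop} (hc : center X = ⊥) (h : FixCard S X) (hS : ∀ a b, S a b → 8 ∣ a → ¬ 16 ∣ a → False)
    (hz : orderOf z = 2) (hK : IsComponentOf K (centralizer ({z} : Set X))) (hD : D8 ↥K) : False :=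
  row_of (h.compCard hc) hS hz hK hD

theorem eight_dvd (hD : D8 ↥K) : 8 ∣ Nat.card X := hD.dvd.trans (card_subgroup_dvd_card K)

/-- the divisors of `|²E₆(2)|` -/
theorem cand_e : (cand [(2, 36), (3, 9), (5, 2), (7, 2), (11, 1), (13, 1), (17, 1), (19, 1)] 76532479683774853939200
    fPSL).all (fun x => Nat.ble x.2 64) = true := by decide +kernel

theorem valid_e : valid [(2, 36), (3, 9), (5, 2), (7, 2), (11, 1), (13, 1), (17, 1), (19, 1)] 76532479683774853939200
    = true := by decide +kernel

theorem card_mulAut_le {F : Type*} [Field F] [Fintype F] (hF : Odd (Fintype.card F)) (h3 : 3 < Fintype.card F) :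
    Nat.card (MulAut (Matrix.ProjectiveSpecialLinearGroup (Fin 2) F)) ≤ Fintype.card F ^ 4 := by
  have hprime : Fact (ringChar F).Prime := ⟨CharP.char_is_prime F (ringChar F)⟩
  obtain ⟨n, hn⟩ := FiniteField.card F (ringChar F)
  have h1 := H436.TT.card_mulAut (F := F) (ringChar F) n hn.2 n.pos h3
  have h2 := SmallSimple.PSLTwoPart.card_psl_two_odd hF
  have hg : Nat.gcd 2 (Fintype.card F - 1) = 2 := by
    apply Nat.gcd_eq_left
    obtain ⟨k, hk⟩ := hF
    exact ⟨k, by omega⟩
  have hnle : (n : ℕ) ≤ Fintype.card F := by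
    rw [hn.2]
    exact (Nat.lt_pow_self hprime.1.one_lt).le
  rw [h1, hg]
  calc 2 * (n : ℕ) * Nat.card (Matrix.ProjectiveSpecialLinearGroup (Fin 2) F)
      = (n : ℕ) * (2 * Nat.card (Matrix.ProjectiveSpecialLinearGroup (Fin 2) F)) := by ring
    _ = (n : ℕ) * (Fintype.card F * (Fintype.card F ^ 2 - 1)) := by rw [h2]
    _ ≤ Fintype.card F * (Fintype.card F * Fintype.card F ^ 2) :=
        Nat.mul_le_mul hnle (Nat.mul_le_mul_left _ (Nat.sub_le _ _))
    _ = Fintype.card F ^ 4 := by ring

theorem row_b (h : Spor.IsoB X) (hz : orderOf z = 2) (hK : IsComponentOf K (centralizer ({z} : Set X)))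
    (hD : D8 ↥K) (hZ : Odd (Nat.card ↥(center ↥K))) : False := by
  obtain ⟨K4, _, _, hK4⟩ := BabyTab.exists_field
  obtain ⟨f⟩ := h
  have h1 := isComponentOf_map f hK
  rw [map_centralizer_singleton] at h1
  have h2 := (BabyTab.table K4 hK4 (f z) (by rw [MulEquiv.orderOf_eq, hz]) _ h1).congr (subMap f K).symm
  have : Finite (Lie.twistedE6 K4 2) := Nat.finite_of_card_ne_zero (by rw [BabyTab.card_E K4 hK4]; norm_num)
  have hE : center (Lie.twistedE6 K4 2) = ⊥ := CpAut.TwoInner.center_eq_bot_of_card
    (MonsterN.EInst.isSimple K4 hK4) (by rw [BabyTab.card_E K4 hK4]; norm_num)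
  have hq : IsQuasisimple ↥K := (SignalizersComponents.Components.isQuasisimple_congr (subgroupOfEquivOfLe hK.1)).1 hK.2.2
  have h16 : ∀ m : ℕ, m ∣ Nat.card ↥K → m ≠ 76532479683774853939200 := by
    rintro m hm rfl
    exact hD.not_dvd ((by norm_num : 16 ∣ 76532479683774853939200).trans hm)
  rcases D8GW.gw hq hZ hD with ⟨F, i1, i2, hodd, h3, ⟨e⟩⟩ | ⟨⟨e⟩⟩
  · have h4 := h2.cases hE e
    rw [BabyTab.card_E K4 hK4] at h4
    rcases h4 with h4 | ⟨h4, h5⟩
    · apply h16 _ _ h4
      rw [← Nat.card_congr e.toEquiv]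
      exact card_quotient_dvd_card _
    · have h6 := (psl_mem valid_e le_rfl (fun _ => h3) h4).1
      have h7 := List.all_eq_true.1 cand_e _ h6
      have h8 : Fintype.card F ≤ 64 := Nat.le_of_ble_eq_true h7
      have h9 := card_mulAut_le hodd h3
      have h10 : Fintype.card F ^ 4 ≤ 64 ^ 4 := Nat.pow_le_pow_left h8 4
      have h11 := h5.trans (Nat.mul_le_mul_left 13571955000 (h9.trans h10))
      norm_num at h11
  · have h4 := h2.cases hE e
    rw [BabyTab.card_E K4 hK4] at h4
    rcases h4 with h4 | ⟨h4, h5⟩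
    · apply h16 _ _ h4
      rw [← Nat.card_congr e.toEquiv]
      exact card_quotient_dvd_card _
    · have h10 : Nat.card (MulAut ↥(alternatingGroup (Fin 7))) = (7 : ℕ).factorial := by
        rw [← Nat.card_congr (Equiv.ofBijective _ (S2119.result 7 (by omega) (by omega))), Nat.card_perm, Nat.card_fin]
      rw [h10] at h5
      revert h5
      decide

/-- **The components with Sylow 2-subgroups `D_8` of the centralizers of inner involutions.** -/
theorem inner [IsSimpleGroup X] (h : IsSporadicGroup X ∨ Lie.IsoTits X) (hz : orderOf z = 2)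
    (hK : IsComponentOf K (centralizer ({z} : Set X))) (hD : D8 ↥K) (hZ : Odd (Nat.card ↥(center ↥K))) :
    Spor.IsoHS X ∧ Nonempty (↥K ≃* ↥(alternatingGroup (Fin 6))) := by
  have hd := eight_dvd hD
  have hc : center X = ⊥ := by
    refine CpAut.TwoInner.center_eq_bot_of_card inferInstance ?_
    intro hp
    have h2 : 2 ∣ Nat.card X := (by norm_num : 2 ∣ 8).trans hd
    have h4 := (Nat.prime_dvd_prime_iff_eq Nat.prime_two hp).1 h2
    omega
  rcases h with h | h
  · rcases h with h | h | h | h | h | h | h | h | h | h | h | h | h | h | h | h | h | h | h | h | h | h | h | h | h | h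
    · exact (row_fix hc (fix_m11 h) (fun _ _ h => h.elim) hz hK hD).elim
    · exact (row_of (compCard_m12 h) (fun a b h _ => by omega) hz hK hD).elim
    · exact (row_of (compCard_m22 h) (fun _ _ h => h.elim) hz hK hD).elim
    · exact (row_fix hc (fix_m23 h) (fun _ _ h => h.elim) hz hK hD).elim
    · exact (row_fix hc (fix_m24 h) (fun _ _ h => h.elim) hz hK hD).elim
    · exact (row_of (compCard_j1 h) (fun a b h _ => by omega) hz hK hD).elim
    · exact (row_of (compCard_j2 h) (fun a b h _ => by omega) hz hK hD).elim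
    · exact (row_of (compCard_j3 h) (fun _ _ h => h.elim) hz hK hD).elim
    · exact (row_fix hc (fix_j4 h) (fun _ _ h => h.elim) hz hK hD).elim
    · exact (row_fix hc (fix_co1 h) (fun a b h _ => by omega) hz hK hD).elim
    · exact (row_fix hc (fix_co2 h) (fun _ _ h => h.elim) hz hK hD).elim
    · exact (row_fix hc (fix_co3 h) (fun a b h hab => by omega) hz hK hD).elim
    · exact (row_of (TwoAlt.compCard_mcl h) (fun a b h hab => by omega) hz hK hD).elim
    · exact ⟨h, CTwoTab.HS.comp_of_iso h hz hK⟩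
    · exact (row_of (compCard_suz h) (fun a b h hab => by omega) hz hK hD).elim
    · exact (row_of (compCard_he h) (fun a b h hab => by omega) hz hK hD).elim
    · exact (row_of (compCard_ru h) (fun a b h _ => by omega) hz hK hD).elim
    · exact (row_of (InnON.compCard h) (fun a b h hab => by omega) hz hK hD).elim
    · exact (row_of (TwoAlt.compCard_ly h) (fun a b h hab => by omega) hz hK hD).elim
    · exact (row_of (compCard_fi22 h) (fun a b h hab => by omega) hz hK hD).elim
    · exact (row_fix hc (fix_fi23 h) (fun a b h hab => by omega) hz hK hD).elim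
    · exact (row_of (compCard_fi24 h) (fun a b h hab => by omega) hz hK hD).elim
    · exact (row_of (compCard_hn h) (fun a b h hab => by omega) hz hK hD).elim
    · exact (row_fix hc (fix_th h) (fun _ _ h => h.elim) hz hK hD).elim
    · exact (row_b h hz hK hD hZ).elim
    · exact (row_fix hc (fix_m h) (fun a b h hab => by omega) hz hK hD).elim
  · exact (row_of (S := fun _ _ => False) (compCard_of_ct (fun _ hu => EvenType.CharTwoCent.char2_centralizer
      (EvenType.ChevTwoTits.charTwo h) hu)) (fun _ _ h => h.elim) hz hK hD).elim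

end Cfsg.Agent.H300.SporIn
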