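import Cfsg.Agent.H300.D8Row
import Cfsg.Agent.H292.OrthTwo
import Cfsg.Agent.S0293
import Cfsg.Agent.S0294
import Cfsg.Agent.S0296
import Cfsg.Agent.S0297

/-!
# Components with dihedral Sylow 2-subgroups of order 8: orthogonal groups in characteristic two (helper300)
-/

set_option autoImplicit false

namespace Cfsg.Agent.H300.D8Row

open Subgroup Cfsg Cfsg.Agent.H300.D8Base Cfsg.Agent.H292

theorem card_plus {F : Type*} [Field F] [Fintype F] [CharP F 2] {m : ℕ} (hm : 4 ≤ m) :
    16 ∣ Nat.card (POmega F (quadFormPlus m F)) := by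
  have he := D8Card.even_card (F := F)
  have h1 := S0293.result (F := F) rfl m hm
  have h2 : Odd (Fintype.card F ^ m - 1) := by
    have h3 : Even (Fintype.card F ^ m) := (Nat.even_pow.2 ⟨he, by omega⟩)
    exact Nat.Even.sub_odd (Nat.one_le_pow _ _ Fintype.card_pos) h3 odd_one
  have h3 : Odd (Nat.gcd 4 (Fintype.card F ^ m - 1)) := h2.of_dvd_nat (Nat.gcd_dvd_right _ _)
  refine D8Card.of_odd_mul h3 ?_
  rw [h1, mul_assoc]
  refine Dvd.dvd.mul_right ?_ _
  have h4 : (2 : ℕ) ^ 4 ∣ Fintype.card F ^ 4 := pow_dvd_pow_of_dvd he.two_dvd 4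
  refine (show 16 ∣ Fintype.card F ^ 4 from h4).trans (pow_dvd_pow _ ?_)
  calc 4 = 4 * 1 := by norm_num
    _ ≤ m * (m - 1) := Nat.mul_le_mul hm (by omega)

theorem card_minus {F : Type*} [Field F] [Fintype F] [CharP F 2] {m : ℕ} (hm : 4 ≤ m) {a b : F}
    (hab : ∀ z₁ z₂ : F, z₁ ^ 2 + a * z₁ * z₂ + b * z₂ ^ 2 = 0 → z₁ = 0 ∧ z₂ = 0) :
    16 ∣ Nat.card (POmega F (quadFormMinus (m - 1) F a b)) := by
  have he := D8Card.even_card (F := F)
  have h1 := S0294.result (F := F) rfl m hm a b hab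
  have h2 : Odd (Fintype.card F ^ m + 1) := by
    have h3 : Even (Fintype.card F ^ m) := (Nat.even_pow.2 ⟨he, by omega⟩)
    exact h3.add_one
  have h3 : Odd (Nat.gcd 4 (Fintype.card F ^ m + 1)) := h2.of_dvd_nat (Nat.gcd_dvd_right _ _)
  refine D8Card.of_odd_mul h3 ?_
  rw [h1, mul_assoc]
  refine Dvd.dvd.mul_right ?_ _
  have h4 : (2 : ℕ) ^ 4 ∣ Fintype.card F ^ 4 := pow_dvd_pow_of_dvd he.two_dvd 4
  refine (show 16 ∣ Fintype.card F ^ 4 from h4).trans (pow_dvd_pow _ ?_)
  calc 4 = 4 * 1 := by norm_num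
    _ ≤ m * (m - 1) := Nat.mul_le_mul hm (by omega)

variable {F : Type} [Field F] [Fintype F] [CharP F 2]

theorem row_plus {m : ℕ} (hm : 4 ≤ m) : Row (POmega F (quadFormPlus m F)) := by
  intro x hx hx1 A hA hD
  have hs : IsSimpleGroup (POmega F (quadFormPlus m F)) := S0296.result m hm
  have hfin : Finite (POmega F (quadFormPlus m F)) := Finite.of_surjective _ (QuotientGroup.mk'_surjective _)
  have hK : IsChevSimple 2 (POmega F (quadFormPlus m F)) := by
    have : IsPOmegaPlusChar 2 (POmega F (quadFormPlus m F)) :=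
      ⟨F, inferInstance, inferInstance, inferInstance, m, hm, ⟨MulEquiv.refl _⟩⟩
    unfold IsChevSimple IsLieTypeChar
    tauto
  have hna := not_comm hA
  exfalso
  rcases OrthTwo.out_plus CharTwo.two_eq_zero hm (by rw [← pow_two, hx]) with ⟨y, rfl⟩ | h | h | ⟨F₀, i1, i2, hc, h⟩
  · exact H829.ExcComp.no_comp_inner hna hK hx hx1 hA
  · exact no_comp_cen (act hna hK) hx h hA
  · have := (of_psp h (by omega) hA hD).1
    omega
  · have : Fintype F₀ := Fintype.ofFinite F₀
    rw [Nat.card_eq_fintype_card, Nat.card_eq_fintype_card] at hc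
    obtain ⟨k, -, hk⟩ := D8Card.card_pow (F := F)
    have hc2 : CharP F₀ 2 := charTwo_of_sq hk hc
    rcases h with h | ⟨a, b, hab, h⟩
    · have := S0296.result (F := F₀) m hm
      exact of_simple h (card_plus hm) hA hD
    · have := S0297.result (F := F₀) m hm a b hab
      exact of_simple h (card_minus hm hab) hA hD

theorem row_minus {m : ℕ} (hm : 4 ≤ m) {a b : F}
    (hab : ∀ z₁ z₂ : F, z₁ ^ 2 + a * z₁ * z₂ + b * z₂ ^ 2 = 0 → z₁ = 0 ∧ z₂ = 0) :
    Row (POmega F (quadFormMinus (m - 1) F a b)) := by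
  intro x hx hx1 A hA hD
  have hs : IsSimpleGroup (POmega F (quadFormMinus (m - 1) F a b)) := S0297.result m hm a b hab
  have hfin : Finite (POmega F (quadFormMinus (m - 1) F a b)) := Finite.of_surjective _ (QuotientGroup.mk'_surjective _)
  have hK : IsChevSimple 2 (POmega F (quadFormMinus (m - 1) F a b)) := by
    have : IsPOmegaMinusChar 2 (POmega F (quadFormMinus (m - 1) F a b)) :=
      ⟨F, inferInstance, inferInstance, inferInstance, m, a, b, hm, hab, ⟨MulEquiv.refl _⟩⟩
    unfold IsChevSimple IsLieTypeChar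
    tauto
  have hna := not_comm hA
  exfalso
  rcases OrthTwo.out_minus CharTwo.two_eq_zero hm hab (by rw [← pow_two, hx]) with ⟨y, rfl⟩ | h | h
  · exact H829.ExcComp.no_comp_inner hna hK hx hx1 hA
  · exact no_comp_cen (act hna hK) hx h hA
  · have := (of_psp h (by omega) hA hD).1
    omega

end Cfsg.Agent.H300.D8Row
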