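import Cfsg.Agent.H300.D8RowSp
import Cfsg.Agent.H300.D8RowO
import Cfsg.Agent.H300.D8RowExc

/-!
# Components with dihedral Sylow 2-subgroups of order 8: the groups of Lie type in characteristic two (helper300)

`X` simple of Lie type in characteristic two, `x` an involutory automorphism, `A` a component of `C_X(x)` with dihedral
Sylow 2-subgroups of order 8: `X` has sectional 2-rank at most 4, or `A ≅ A₆` and `X ≅ PSp₄(4)`, `U₅(2)` or `L₅(2)`.
-/

set_option autoImplicit false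

namespace Cfsg.Agent.H300.D8Even

open Subgroup Cfsg Cfsg.Lie Cfsg.Agent.H300.D8Base

universe u

theorem row_lie {K : Type u} [Group K] [Finite K] [IsSimpleGroup K] (hna : ¬ IsMulCommutative K)
    (h : IsLieTypeChar 2 K) : D8Row.Row K := by
  rcases h with ⟨F, i1, i2, i3, n, hn, hn2, ⟨e⟩⟩ | ⟨F, i1, i2, i3, m, hm, hm2, ⟨e⟩⟩ |
    ⟨F, i1, i2, i3, n, q, hF, hn, h32, ⟨e⟩⟩ | ⟨F, i1, i2, i3, m, hm, ho, ⟨e⟩⟩ | ⟨F, i1, i2, i3, m, hm, ⟨e⟩⟩ |
    ⟨F, i1, i2, i3, m, a, b, hm, hab, ⟨e⟩⟩ | h | h | ⟨-, h⟩ | ⟨-, h⟩ | ⟨h, -⟩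
  · have hf := Finite.of_equiv K e.toEquiv
    exact (D8Row.row_psl hn hn2).congr e.symm
  · have hf := Finite.of_equiv K e.toEquiv
    exact (D8Row.row_psp hm hm2).congr e.symm
  · have hf := Finite.of_equiv K e.toEquiv
    exact (D8Row.row_psu hF hn h32).congr e.symm
  · exfalso
    exact Nat.not_even_iff_odd.2 ho D8Card.even_card
  · have hf := Finite.of_equiv K e.toEquiv
    exact (D8Row.row_plus hm).congr e.symm
  · have hf := Finite.of_equiv K e.toEquiv
    exact (D8Row.row_minus hm hab).congr e.symm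
  · exact D8RowExc.row_exc hna (Or.inl h)
  · exact D8RowExc.row_exc hna (Or.inr (Or.inl h))
  · exact D8RowExc.row_exc hna (Or.inr (Or.inr (Or.inl h)))
  · exact D8RowExc.row_exc hna (Or.inr (Or.inr (Or.inr h)))
  · omega

end Cfsg.Agent.H300.D8Even
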