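import Cfsg.Agent.H287.OutON

/-!
# O'Nan group: the 2-elements centralized by an outer involution are involutions (helper300)

The check is the one of helper287's `OutON`: in the table of a Sylow 2-subgroup `T` of order 512, for each involutory
`conj u * β` the elements `x ∈ T` centralized by it satisfy `x * x = 1`.
-/

set_option autoImplicit false
set_option maxRecDepth 100000
set_option Elab.async false

namespace Cfsg.Agent.H300.OutONSq

open Subgroup Cfsg
open Cfsg.Spor (ON)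
open Cfsg.Agent.H287 Cfsg.Agent.H287.OutON
open Cfsg.Agent.UGT.C.BalON Cfsg.Agent.UGT.C.BalONInv Cfsg.Agent.UGT.C.BalONTab
open Cfsg.Agent.UGT.C.PcTab

universe u

/-- all `x < n` centralized by `conj u * β` are involutions -/
noncomputable def sqOk (u : ℕ) : ℕ → Bool
  | 0 => true
  | n + 1 => bif Nat.beq (mu u (bp n)) (mu n u) then (bif Nat.beq (mu n n) 0 then sqOk u n else false) else sqOk u n

theorem sqOk_all_a : (us.take 16).all (fun u => sqOk u 512) = true := by decide +kernel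

theorem sqOk_all_b : ((us.drop 16).take 16).all (fun u => sqOk u 512) = true := by decide +kernel

theorem sqOk_all_c : ((us.drop 32).take 16).all (fun u => sqOk u 512) = true := by decide +kernel

theorem sqOk_all_d : (us.drop 48).all (fun u => sqOk u 512) = true := by decide +kernel

theorem sqOk_all : us.all (fun u => sqOk u 512) = true := by
  have h : us = us.take 16 ++ ((us.drop 16).take 16 ++ ((us.drop 32).take 16 ++ us.drop 48)) := rfl
  rw [h, List.all_append, List.all_append, List.all_append, sqOk_all_a, sqOk_all_b, sqOk_all_c, sqOk_all_d]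
  rfl

theorem sqOk_spec (u : ℕ) : ∀ n, sqOk u n = true → ∀ x < n, mu u (bp x) = mu x u → mu x x = 0 := by
  intro n
  induction n with
  | zero => intro _ x hx; omega
  | succ n ih =>
    intro h x hx hxu
    rw [sqOk] at h
    by_cases hn : x = n
    · subst hn
      have h1 : Nat.beq (mu u (bp x)) (mu x u) = true := by rw [Nat.beq_eq]; exact hxu
      rw [h1] at h
      cases h2 : Nat.beq (mu x x) 0
      · rw [h2] at h; exact Bool.noConfusion h
      · exact Nat.eq_of_beq_eq_true h2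
    · have hlt : x < n := by omega
      cases h1 : Nat.beq (mu u (bp n)) (mu n u)
      · rw [h1] at h
        exact ih h x hlt hxu
      · rw [h1] at h
        cases h2 : Nat.beq (mu n n) 0
        · rw [h2] at h; exact Bool.noConfusion h
        · rw [h2] at h
          exact ih h x hlt hxu

theorem sq_eq_one' (hON : IsON ON) {σ : MulAut ON} (hσ : orderOf σ = 2) (hout : ¬ ∃ g, σ = MulAut.conj g) {w : ON}
    (hw : σ w = w) {k : ℕ} (hk : w ^ 2 ^ k = 1) : w * w = 1 := by
  have hfin := Cfsg.Agent.ONType.RepCent.finite_of_isON hON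
  have hs := hON.1
  have hσσ : σ * σ = 1 := by rw [← pow_two, ← hσ, pow_orderOf_eq_one]
  obtain ⟨x, hx | hx⟩ := out' hON σ
  · exact absurd ⟨x, hx⟩ hout
  obtain ⟨P, hP⟩ := Cfsg.Agent.Schreier.ONTr.exists_sylow hON
  have hfact : Fact (Nat.Prime 2) := ⟨Nat.prime_two⟩
  have hwp : IsPGroup 2 ↥(zpowers w) := by
    have h1 : orderOf w ∣ 2 ^ k := orderOf_dvd_of_pow_eq_one hk
    obtain ⟨j, -, hj⟩ := (Nat.dvd_prime_pow Nat.prime_two).1 h1
    exact IsPGroup.of_card (n := j) (by rw [Nat.card_zpowers, hj])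
  have hfixz : ∀ r ∈ zpowers w, σ r = r := by
    intro r hr
    obtain ⟨n, rfl⟩ := mem_zpowers_iff.1 hr
    rw [map_zpow, hw]
  obtain ⟨S', hPS, hS'⟩ := exists_inv_sylow hσσ hwp fun r hr => by rwa [hfixz r hr]
  obtain ⟨y, hy⟩ := MulAction.exists_smul_eq ON S' P
  have hmem : ∀ x, x ∈ S' → y * x * y⁻¹ ∈ P := by
    intro x hx
    rw [← hy]
    exact ⟨x, hx, rfl⟩
  have hmem2 : ∀ x, x ∈ P → y⁻¹ * x * y ∈ S' := by
    intro x hx
    rw [← hy] at hx
    obtain ⟨z, hz, rfl⟩ := hx
    have h1 : y⁻¹ * (y * z * y⁻¹) * y = z := by group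
    change y⁻¹ * (y * z * y⁻¹) * y ∈ S'
    rw [h1]
    exact hz
  have hcj : ∀ s, (MulAut.conj y * σ * (MulAut.conj y)⁻¹) s = y * σ (y⁻¹ * s * y) * y⁻¹ := by
    intro s
    rw [← map_inv]
    change y * σ (y⁻¹ * s * y⁻¹⁻¹) * y⁻¹ = _
    rw [inv_inv]
  have h1 : ∀ s ∈ P, (MulAut.conj y * σ * (MulAut.conj y)⁻¹) s ∈ P := by
    intro s hs
    rw [hcj]
    exact hmem _ (hS' _ (hmem2 s hs))
  obtain ⟨u, hu⟩ : ∃ u, u = y * x * bt hON y⁻¹ := ⟨_, rfl⟩
  have key : ∀ z, (MulAut.conj y * σ * (MulAut.conj y)⁻¹) z = u * bt hON z * u⁻¹ := by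
    intro z
    rw [hx, ← map_inv]
    change y * (x * bt hON (y⁻¹ * z * y⁻¹⁻¹) * x⁻¹) * y⁻¹ = _
    rw [hu]
    simp only [map_mul, map_inv]
    group
  have hPT : ∀ z, z ∈ P ↔ z ∈ T := by
    intro z
    change z ∈ (P : Subgroup ON) ↔ z ∈ T
    rw [hP]
  have huT : u ∈ T := by
    apply norm_T hON
    intro t ht
    have h4 := key (bt hON t)
    rw [bt_bt'] at h4
    rw [← h4, ← hPT]
    exact h1 _ ((hPT _).2 (bt_mem hON ht))
  have huu : u * bt hON u = 1 := by
    apply conj_inj hON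
    rw [map_one]
    ext z
    show u * bt hON u * z * (u * bt hON u)⁻¹ = z
    have h4 : (MulAut.conj y * σ * (MulAut.conj y)⁻¹) * (MulAut.conj y * σ * (MulAut.conj y)⁻¹) = 1 := by
      have : (MulAut.conj y * σ * (MulAut.conj y)⁻¹) * (MulAut.conj y * σ * (MulAut.conj y)⁻¹) =
        MulAut.conj y * (σ * σ) * (MulAut.conj y)⁻¹ := by group
      rw [this, hσσ, mul_one, mul_inv_cancel]
    have h5 := congrArg (fun f : MulAut ON => f z) h4
    change (MulAut.conj y * σ * (MulAut.conj y)⁻¹) ((MulAut.conj y * σ * (MulAut.conj y)⁻¹) z) = z at h5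
    rw [key, key, map_mul, map_mul, bt_bt', map_inv] at h5
    calc u * bt hON u * z * (u * bt hON u)⁻¹ = u * (bt hON u * z * (bt hON u)⁻¹) * u⁻¹ := by group
      _ = z := h5
  obtain ⟨n, hn, rfl⟩ := exists_E hs huT
  have huu' := huu
  rw [bt_E, E_mul hs hn, ← E_zero] at huu'
  have h6 := E_inj hs (mu_lt hs hn _) (by norm_num) huu'
  -- the fixed element
  have hwP : y * w * y⁻¹ ∈ T := (hPT _).1 (hmem w (hPS (mem_zpowers w)))
  have hwf : (MulAut.conj y * σ * (MulAut.conj y)⁻¹) (y * w * y⁻¹) = y * w * y⁻¹ := by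
    rw [hcj]
    have h8 : y⁻¹ * (y * w * y⁻¹) * y = w := by group
    rw [h8, hw]
  obtain ⟨c, hc, hcw⟩ := exists_E hs hwP
  rw [hcw, key, bt_E, mul_inv_eq_iff_eq_mul, E_mul hs hn, E_mul hs hc] at hwf
  have h9 := E_inj hs (mu_lt hs hn _) (mu_lt hs hc _) hwf
  have h10 : n ∈ us := by
    have := us_ok n hn h6
    simpa using this
  have h11 := List.all_eq_true.1 sqOk_all n h10
  rw [bp_ok c hc] at h9
  have h12 := sqOk_spec n 512 h11 c hc h9
  have h13 : (y * w * y⁻¹) * (y * w * y⁻¹) = 1 := by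
    rw [hcw, E_mul hs hc, h12, E_zero]
  have h14 : (y * w * y⁻¹) * (y * w * y⁻¹) = y * (w * w) * y⁻¹ := by group
  rw [h14] at h13
  have h15 : w * w = y⁻¹ * (y * (w * w) * y⁻¹) * y := by group
  rw [h15, h13, mul_one, inv_mul_cancel]

/-- **the 2-elements centralized by an outer involution of the O'Nan group are involutions** -/
theorem sq_eq_one {X : Type u} [Group X] (h : Spor.IsoON X) {σ : MulAut X} (hσ : orderOf σ = 2)
    (hout : ¬ ∃ g, σ = MulAut.conj g) {w : X} (hw : σ w = w) {k : ℕ} (hk : w ^ 2 ^ k = 1) : w * w = 1 := by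
  obtain ⟨f⟩ := h
  apply f.injective
  rw [map_mul, map_one]
  refine sq_eq_one' Cfsg.Agent.KFacts.ON.Cent.hON (σ := MulAut.congr f σ) ?_ ?_ (w := f w) ?_ (k := k) ?_
  · rw [← hσ]
    exact MulEquiv.orderOf_eq (MulAut.congr f) σ
  · rintro ⟨g, hg⟩
    apply hout
    refine ⟨f.symm g, ?_⟩
    ext z
    have h1 := congrArg (fun t : MulAut ON => f.symm (t (f z))) hg
    simpa [MulAut.congr] using h1
  · simp [MulAut.congr, hw]
  · rw [← map_pow, hk, map_one]

end Cfsg.Agent.H300.OutONSq
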