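import Cfsg.Agent.CpAut.TwoAll
import Cfsg.Agent.H287.OutA

/-!
# `HS` : outer involutory automorphisms (helper300)

`e16` : `x` an outer involutory automorphism of `HS`: the components of `C(x)` have order 20160, or `C(x)` contains an
elementary abelian subgroup of order 16.
-/

set_option autoImplicit false

namespace Cfsg.Agent.H300.OuterHS

open Subgroup Cfsg Cfsg.Agent
open Cfsg.Agent.H287
open Cfsg.Agent.HN Cfsg.Agent.HN.Pres Cfsg.Agent.HN.HS100 Cfsg.Agent.HN.P1408 Cfsg.Agent.HN.H0Basic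
open Cfsg.Agent.KFacts.HS
open Cfsg.Agent.CpAutTwo.HS

universe u

/-- an elementary abelian group extended by a commuting involution -/
def ext {H : Type*} [Group H] (S : Subgroup H) (v : H) (hvv : v * v = 1) (hc : ∀ s ∈ S, s * v = v * s) : Subgroup H where
  carrier := {g | g ∈ S ∨ g * v ∈ S}
  one_mem' := Or.inl S.one_mem
  mul_mem' := by
    rintro a b (ha | ha) (hb | hb)
    · exact Or.inl (S.mul_mem ha hb)
    · right
      change a * b * v ∈ S
      rw [mul_assoc]
      exact S.mul_mem ha hb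
    · right
      have h1 : b * v = v * b := hc b hb
      change a * b * v ∈ S
      rw [mul_assoc, h1, ← mul_assoc]
      exact S.mul_mem ha hb
    · left
      have h1 : (b * v) * v = v * (b * v) := hc _ hb
      have h2 : a * b = (a * v) * (b * v) := by
        have h3 : b = v * (b * v) := by rw [← h1, mul_assoc, hvv, mul_one]
        calc a * b = a * (v * (b * v)) := by rw [← h3]
          _ = (a * v) * (b * v) := by group
      change a * b ∈ S
      rw [h2]
      exact S.mul_mem ha hb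
  inv_mem' := by
    rintro a (ha | ha)
    · exact Or.inl (S.inv_mem ha)
    · right
      have h1 : (a * v) * v = v * (a * v) := hc _ ha
      have h2 : a⁻¹ * v = (a * v)⁻¹ := by
        have h3 : a = v * (a * v) := by rw [← h1, mul_assoc, hvv, mul_one]
        have h4 : a⁻¹ = (a * v)⁻¹ * v := by
          rw [eq_inv_mul_iff_mul_eq]
          have : a * v * a⁻¹ = v * ((v * (a * v)) * a⁻¹) := by
            calc a * v * a⁻¹ = (v * v) * (a * v) * a⁻¹ := by rw [hvv, one_mul]
              _ = _ := by group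
          rw [this, ← h3, mul_inv_cancel, mul_one]
        rw [h4, mul_assoc, hvv, mul_one]
      change a⁻¹ * v ∈ S
      rw [h2]
      exact S.inv_mem ha

theorem ext_sq {H : Type*} [Group H] {S : Subgroup H} {v : H} (hvv : v * v = 1) (hc : ∀ s ∈ S, s * v = v * s)
    (hS : ∀ s ∈ S, s * s = 1) : ∀ g ∈ ext S v hvv hc, g * g = 1 := by
  rintro g (hg | hg)
  · exact hS g hg
  · have h1 : (g * v) * v = v * (g * v) := hc _ hg
    have h2 := hS _ hg
    have h3 : g = v * (g * v) := by rw [← h1, mul_assoc, hvv, mul_one]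
    have h4 : g = (g * v) * v := by rw [mul_assoc, hvv, mul_one]
    calc g * g = ((g * v) * v) * (v * (g * v)) := by rw [← h3, ← h4]
      _ = (g * v) * (v * v) * (g * v) := by group
      _ = 1 := by rw [hvv, mul_one, h2]

theorem card_ext {H : Type*} [Group H] [Finite H] {S : Subgroup H} {v : H} (hvv : v * v = 1) (hc : ∀ s ∈ S, s * v = v * s)
    (hv : v ∉ S) : Nat.card ↥(ext S v hvv hc) = 2 * Nat.card ↥S := by
  let f : ↥S × Bool → ↥(ext S v hvv hc) := fun c => match c.2 with
    | false => ⟨c.1, Or.inl c.1.2⟩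
    | true => ⟨c.1 * v, Or.inr (by rw [mul_assoc, hvv, mul_one]; exact c.1.2)⟩
  have hf : Function.Bijective f := by
    constructor
    · rintro ⟨a, i⟩ ⟨b, j⟩ h
      have h1 := congrArg (fun t : ↥(ext S v hvv hc) => (t : H)) h
      cases i <;> cases j
      · exact Prod.ext (Subtype.ext h1) rfl
      · exfalso
        change (a : H) = b * v at h1
        apply hv
        have : v = (b : H)⁻¹ * a := by rw [h1]; group
        rw [this]
        exact S.mul_mem (S.inv_mem b.2) a.2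
      · exfalso
        change (a : H) * v = b at h1
        apply hv
        have : v = (a : H)⁻¹ * b := by rw [← h1]; group
        rw [this]
        exact S.mul_mem (S.inv_mem a.2) b.2
      · exact Prod.ext (Subtype.ext (mul_right_cancel h1)) rfl
    · rintro ⟨g, hg⟩
      by_cases h : g ∈ S
      · exact ⟨(⟨g, h⟩, false), rfl⟩
      · have h1 : g * v ∈ S := hg.resolve_left h
        refine ⟨(⟨g * v, h1⟩, true), Subtype.ext ?_⟩
        change g * v * v = g
        rw [mul_assoc, hvv, mul_one]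
  rw [← Nat.card_congr (Equiv.ofBijective f hf), Nat.card_prod]
  have : Nat.card Bool = 2 := by rw [Nat.card_eq_fintype_card]; rfl
  rw [this, mul_comm]

def v4 : List ℕ := [3, 3, 4, 2, 2, 1, 3, 4, 1, 4, 3, 0, 4, 2, 0, 0, 4, 2, 0, 3, 3, 4, 2, 2]

theorem chk4 : (inCd v4 && eqw (v4 ++ v4) [] && eqw (CpAutTwo.HS.tW ++ v4) (v4 ++ CpAutTwo.HS.tW) && eqw (v1 ++ v4) (v4 ++ v1) &&
    eqw (v2 ++ v4) (v4 ++ v2) && eqw (v3 ++ v4) (v4 ++ v3)) = true := by decide +kernel

theorem chkF4 : ∀ v : Inv4.V, okw (FW v) = true ∧ eqw (FW v) v4 = false := by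
  decide +kernel

theorem hvv : hw v4 * hw v4 = 1 := by
  have h := chk4
  simp only [Bool.and_eq_true] at h
  exact HypFacts.two_of h.1.1.1.1.2

theorem hcomm : ∀ s ∈ Inv4.S I, s * hw v4 = hw v4 * s := by
  have h := chk4
  simp only [Bool.and_eq_true] at h
  obtain ⟨⟨⟨⟨⟨h1, h2⟩, h3⟩, h4⟩, h5⟩, h6⟩ := h
  have key : ∀ (b : Bool) {w : List ℕ}, hw w * hw v4 = hw v4 * hw w → Commute (Inv4.bp b (hw w)) (hw v4) := by
    intro b w hw'
    cases b
    · exact Commute.one_left _
    · exact hw'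
  rintro _ ⟨v, rfl⟩
  exact (((key _ (HypFacts.comm_of h3)).mul_left (key _ (HypFacts.comm_of h4))).mul_left
    ((key _ (HypFacts.comm_of h5)).mul_left (key _ (HypFacts.comm_of h6)))).eq

theorem v4_notMem : hw v4 ∉ Inv4.S I := by
  rintro ⟨v, hv⟩
  rw [← hw_FW] at hv
  obtain ⟨h1, h2⟩ := chkF4 v
  rw [eqw_of_hw_eq h1 (by decide +kernel) hv] at h2
  exact absurd h2 (by decide)

/-- the elementary abelian subgroup of order 32 -/
def S5 : Subgroup H0 := ext (Inv4.S I) (hw v4) hvv hcomm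

theorem card_S5 : Nat.card ↥S5 = 32 := by
  have := fin_H0
  rw [S5, card_ext hvv hcomm v4_notMem, card_S]

theorem S5_le : S5 ≤ Cd := by
  have h := chk4
  simp only [Bool.and_eq_true] at h
  have h1 : hw v4 ∈ Cd := mem_of_inCd h.1.1.1.1.1
  rintro g (hg | hg)
  · exact S_le hg
  · have h2 : g = (g * hw v4) * hw v4 := by rw [mul_assoc, hvv, mul_one]
    rw [h2]
    exact Cd.mul_mem (S_le hg) h1

theorem S5_sq : ∀ g ∈ S5, g * g = 1 := ext_sq hvv hcomm (by
  rintro _ ⟨v, rfl⟩
  exact Inv4.F_sq I v)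

theorem τ_mem_S5 : τ ∈ S5 := by
  left
  refine ⟨(true, false, false, false), ?_⟩
  rw [← hw_FW]
  have : FW (true, false, false, false) = CpAutTwo.HS.tW := by decide
  rw [this, tW_eq]

variable {L : Type u} [Group L] (D : Cfsg.Agent.KFacts.HS.Mod L)

/-- an elementary abelian subgroup of order 16 -/
theorem exists_d : ∃ E : Subgroup L, E ≤ fixedSubgroup (D.au Syl.d) ∧ (∀ a ∈ E, a * a = 1) ∧ Nat.card ↥E = 16 := by
  refine ⟨D.im S5, ?_, ?_, ?_⟩
  · refine le_trans ?_ (im_le D)
    intro l hl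
    obtain ⟨h, hk, hS, rfl⟩ := D.mem_im.1 hl
    exact D.mem_im.2 ⟨h, hk, S5_le hS, rfl⟩
  · intro l hl
    obtain ⟨h, hk, hS, rfl⟩ := D.mem_im.1 hl
    rw [← map_mul]
    have : (⟨h, hk⟩ * ⟨h, hk⟩ : ↥K) = 1 := Subtype.ext (S5_sq h hS)
    rw [this, map_one]
  · have h1 := D.card_im τ_mem_S5 (S5_le.trans inf_le_right)
    rw [card_S5] at h1
    omega

theorem exists_conj_aut (a x : MulAut L) (h : ∃ E : Subgroup L, E ≤ fixedSubgroup x ∧ (∀ a ∈ E, a * a = 1) ∧
    Nat.card ↥E = 16) : ∃ E : Subgroup L, E ≤ fixedSubgroup (a * x * a⁻¹) ∧ (∀ a ∈ E, a * a = 1) ∧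
    Nat.card ↥E = 16 := by
  obtain ⟨E, h1, h2, h3⟩ := h
  refine ⟨E.map a.toMonoidHom, ?_, ?_, ?_⟩
  · rintro _ ⟨y, hy, rfl⟩
    change a (x (a⁻¹ (a y))) = a y
    rw [show a⁻¹ (a y) = y from a.symm_apply_apply y]
    congr 1
    exact h1 hy
  · rintro _ ⟨y, hy, rfl⟩
    rw [← map_mul, h2 y hy, map_one]
  · rw [card_map_of_injective a.injective, h3]

/-- **`HS`** -/
theorem e16 {X : Type u} [Group X] (h : Spor.IsoHS X) {x : MulAut X} (hx : orderOf x = 2)
    (hout : ¬ ∃ g, x = MulAut.conj g) :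
    (∀ K : Subgroup ↥(fixedSubgroup x), IsComponent K → Nat.card ↥K = 20160) ∨
      ∃ E : Subgroup X, E ≤ fixedSubgroup x ∧ (∀ a ∈ E, a * a = 1) ∧ Nat.card ↥E = 16 := by
  obtain ⟨D⟩ := exists_mod h
  obtain ⟨a, rfl | rfl⟩ := outer_cases D x hx hout
  · left
    intro K hK
    exact (hcard_conj_aut a rfl (hcard_hs_z D) K hK).1
  · right
    exact exists_conj_aut a _ (exists_d D)

end Cfsg.Agent.H300.OuterHS
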