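import Cfsg.Agent.CpAut.TwoOuter
import Cfsg.Agent.H300.SixRow

/-!
# `J_2` : the centralizer of an outer involution does not act on `A_6` with odd kernel (helper300)
-/

set_option autoImplicit false

namespace Cfsg.Agent.H300.OuterJTwo

open Subgroup Cfsg Cfsg.Agent
open Cfsg.Agent.H300.SporBase Cfsg.Agent.H300.SixRow
open Cfsg.Agent.StdAlt.Six (A6)

universe u

theorem orderOf_two {X : Type u} [Group X] {s : X} (h : s * s = 1) (h1 : s ≠ 1) : orderOf s = 2 :=
  orderOf_eq_prime (by rw [pow_two, h]) h1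

theorem six {X : Type u} [Group X] [Finite X] (h : Spor.IsoJ2 X) {x : MulAut X} (hxx : x * x = 1)
    (hout : ¬ ∃ g, x = MulAut.conj g) {S : Act ↥(fixedSubgroup x) A6} {s : ↥(fixedSubgroup x)} (hs : Six S s) :
    False := by
  obtain ⟨t, u, Q, v, ρ, D⟩ := Cfsg.Agent.KFacts.J2.Facts.exists_dat_of h
  have hα : ∀ k, x ≠ MulAut.conj k := fun k hk => hout ⟨k, hk⟩
  have hαα : ∀ y, x (x y) = y := fun y => DFunLike.congr_fun hxx y
  have hs2 : orderOf (s : X) = 2 := orderOf_two (congrArg Subtype.val hs.ss) fun h => hs.ne_one (Subtype.ext h)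
  rcases D.F.cover s hs2 with h1 | h1
  · obtain ⟨c, -, hc, hc2⟩ := hs.exists_three
    apply hc2 6
    apply Subtype.ext
    rw [Subgroup.coe_pow]
    exact CpAutTwo.JTwo.pow_two_pow D hα hαα h1 s.2 c.2 (congrArg Subtype.val hc.symm)
  · obtain ⟨f, -, hf4, hf2, hfs, -⟩ := hs.exists_four
    have hf2' : (f : X) * f ≠ 1 := fun h => hf2 (Subtype.ext h)
    have hf4' : ((f : X) * f) * (f * f) = 1 := by
      have h2 := congrArg Subtype.val hf4
      rw [Subgroup.coe_pow] at h2
      calc ((f : X) * f) * (f * f) = (f : X) ^ 4 := by rw [pow_succ, pow_succ, pow_succ, pow_one]; group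
        _ = 1 := h2
    rcases D.F.cover _ (orderOf_two hf4' hf2') with h2 | h2
    · have hcomm : (f : X) * f * s = s * (f * f) := by
        have h3 : (s : X) * f = f * s := congrArg Subtype.val hfs
        calc (f : X) * f * s = f * (f * s) := by group
          _ = f * (s * f) := by rw [h3]
          _ = (f * s) * f := by group
          _ = (s * f) * f := by rw [h3]
          _ = s * (f * f) := by group
      obtain ⟨g, hg1, hg2⟩ := D.F.pair _ _ h2 h1 hcomm
      have h3 := D.F.sqE (g⁻¹ * f * g) (by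
        have e : t = g⁻¹ * (f * f) * g := by rw [← hg1]; group
        rw [e]; group) (by
        have e : u = g⁻¹ * s * g := by rw [← hg2]; group
        have h3 : (s : X) * f = f * s := congrArg Subtype.val hfs
        rw [e]
        calc g⁻¹ * f * g * (g⁻¹ * s * g) = g⁻¹ * (f * s) * g := by group
          _ = g⁻¹ * (s * f) * g := by rw [h3]
          _ = _ := by group)
      apply hf2'
      have e : (f : X) * f = g * ((g⁻¹ * f * g) * (g⁻¹ * f * g)) * g⁻¹ := by group
      rw [e, h3, mul_one, mul_inv_cancel]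
    · exact CpAutTwo.JTwo.no_sqrt D h2 f rfl

end Cfsg.Agent.H300.OuterJTwo
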