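import Cfsg.Agent.UGT.End.McL
import Cfsg.Agent.TypeM.OuterMcL
import Cfsg.Agent.H300.SixRow

/-!
# `McL` : the centralizer of an outer involution does not act on `A_6` with odd kernel (helper300)
-/

set_option autoImplicit false

namespace Cfsg.Agent.H300.OuterMcL

open Subgroup Cfsg Cfsg.Agent
open Cfsg.Agent.H300.SporBase Cfsg.Agent.H300.SixRow
open Cfsg.Agent.StdAlt.Six (A6)
open Cfsg.Agent.UGT.End.McLPerm Cfsg.Agent.UGT.End.McLOuter
open Cfsg.Agent.TypeM Cfsg.Agent.TypeM.OuterMcL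
open Cfsg.Agent.TypeM.Two (MT)

universe u

theorem six {X : Type u} [Group X] (h : Spor.IsoMcL X) {x : MulAut X}
    (hout : ¬ ∃ g, x = MulAut.conj g) [Finite X] {S : Act ↥(fixedSubgroup x) A6} {s : ↥(fixedSubgroup x)}
    (hs : Six S s) : False := by
  obtain ⟨hfin, hsim, hcard, ⟨L⟩⟩ := TypeM.FactsMcL.facts h
  have hI : ∀ L' : MT 8 X, EvenInner L' := fun L' =>
    Cfsg.Agent.TypeM.OuterInst.evenInner L' (Or.inl rfl) (TypeM.FactsAut.gen L' (Or.inl ⟨rfl, hcard⟩))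
  have hE : ∀ L' : MT 8 X, ExPerm L' := fun L' => Cfsg.Agent.TypeM.OuterInst.exPerm L' (by norm_num)
  have hss : (s : X) * s = 1 := congrArg Subtype.val hs.ss
  have hs1 : (s : X) ≠ 1 := fun h => hs.ne_one (Subtype.ext h)
  obtain ⟨L1, hL1⟩ := L.exists_rebase hss hs1
  obtain ⟨v, w, -, -, hvv, hww, hvw, hsv, hsw, hv1, hw1, hne, hvs, hws, hvws⟩ := hs.exists_two
  have hne' : ∀ {a b : ↥(fixedSubgroup x)}, a ≠ b → (a : X) ≠ b := fun h e => h (Subtype.ext e)
  obtain ⟨g, hg⟩ := inner_of_four L1 (hE L1) (hI L1) (φ := x) (by rw [hL1]; exact s.2) (u := (v : X)) (v := (w : X))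
    (congrArg Subtype.val hvv) (hne' hv1) (by rw [hL1]; exact hne' hvs) (by
      rw [hL1]; exact congrArg Subtype.val hsv.symm)
    (congrArg Subtype.val hww) (hne' hw1) (by rw [hL1]; exact hne' hws) (by
      rw [hL1]; exact congrArg Subtype.val hsw.symm)
    (congrArg Subtype.val hvw) (hne' hne) (by rw [hL1]; exact hne' hvws) (Or.inl v.2) (Or.inl w.2)
  exact hout ⟨g, hg.symm⟩

end Cfsg.Agent.H300.OuterMcL
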