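import Mathlib
import Cfsg.Agent.H284.RankFix
import Cfsg.Agent.H300.D8Base

/-!
# Groups acting on a simple group with odd kernel: the fixed points of an involutory automorphism (helper300)

* `Act C P` : `A ⊴ C` maps onto `P`, `C` acts on `P` compatibly, and the kernel of the action has odd order;
* `Act.exists_fix` : elements of `P` fixed by a 2-subgroup `R` of `C` lift to elements of `A` commuting with `R`;
* `Act.card_dvd` : `|C|` divides `|ker| |Aut P|`;
* `rank_fix` : Harada's theorem, `C_{C_X(x)}(V)` has the Sylow 2-subgroup `V`;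
* `ofComp` : the action for a normal quasisimple subgroup `A` with no involution of `C` centralizing `A`.
-/

set_option autoImplicit false

namespace Cfsg.Agent.H300.SporBase

open Subgroup Cfsg Cfsg.Agent

universe u v

/-- `A ⊴ C` maps onto `P`, `C` acts on `P` compatibly, the kernel of the action has odd order -/
structure Act (C : Type u) [Group C] (P : Type v) [Group P] where
  /-- the normal subgroup -/
  A : Subgroup C
  norm : ∀ (g : C) (a : C), a ∈ A → g * a * g⁻¹ ∈ A
  /-- the projection -/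
  π : ↥A →* P
  surj : Function.Surjective π
  /-- the action -/
  φ : C →* MulAut P
  compat : ∀ (g : C) (a : ↥A), π ⟨g * a * g⁻¹, norm g a a.2⟩ = φ g (π a)
  odd : Odd (Nat.card ↥φ.ker)

namespace Act

variable {C : Type u} [Group C] [Finite C] {P : Type v} [Group P] (S : Act C P)

omit [Finite C] in
theorem phi_coe (a : ↥S.A) : S.φ a = MulAut.conj (S.π a) := by
  ext p
  obtain ⟨b, rfl⟩ := S.surj p
  rw [← S.compat, MulAut.conj_apply, ← map_inv, ← map_mul, ← map_mul]
  rfl

omit [Finite C] in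
theorem ker_pi {a : ↥S.A} (h : S.π a = 1) : S.φ a = 1 := by
  rw [S.phi_coe, h, map_one]

theorem pow_ker {g : C} (h : S.φ g = 1) : g ^ Nat.card ↥S.φ.ker = 1 := by
  have h1 : (⟨g, h⟩ : ↥S.φ.ker) ^ Nat.card ↥S.φ.ker = 1 := pow_card_eq_one'
  exact congrArg Subtype.val h1

/-- a 2-element acting trivially is trivial -/
theorem eq_one {g : C} (h : S.φ g = 1) {k : ℕ} (hk : g ^ 2 ^ k = 1) : g = 1 := by
  have h1 := S.pow_ker h
  have h2 := orderOf_dvd_of_pow_eq_one h1
  have h3 := orderOf_dvd_of_pow_eq_one hk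
  have h4 : (Nat.card ↥S.φ.ker).Coprime (2 ^ k) := (Nat.coprime_two_right.2 S.odd).pow_right k
  exact orderOf_eq_one_iff.1 (Nat.eq_one_of_dvd_coprimes h4 h2 h3)

theorem sq_eq_one {g : C} (h : S.φ g * S.φ g = 1) {k : ℕ} (hk : g ^ 2 ^ k = 1) : g * g = 1 := by
  apply S.eq_one (k := k)
  · rw [map_mul, h]
  · rw [← pow_two, ← pow_mul, mul_comm, pow_mul, hk, one_pow]

include S in
theorem card_dvd [Finite P] : Nat.card C ∣ Nat.card ↥S.φ.ker * Nat.card (MulAut P) := by
  rw [card_eq_card_quotient_mul_card_subgroup S.φ.ker, mul_comm]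
  apply Nat.mul_dvd_mul_left
  rw [Nat.card_congr (QuotientGroup.quotientKerEquivRange S.φ).toEquiv]
  exact card_subgroup_dvd_card _

include S in
/-- a power of 2 dividing `|C|` divides `|Aut P|` -/
theorem two_pow_dvd [Finite P] {k : ℕ} (h : 2 ^ k ∣ Nat.card C) : 2 ^ k ∣ Nat.card (MulAut P) := by
  have h1 := h.trans S.card_dvd
  have h2 : (2 ^ k).Coprime (Nat.card ↥S.φ.ker) := (Nat.coprime_two_left.2 S.odd).pow_left k
  exact h2.dvd_of_dvd_mul_left h1

/-- the kernel of `π` has odd order -/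
theorem odd_pi : Odd (Nat.card ↥S.π.ker) := by
  let f : ↥S.π.ker →* ↥S.φ.ker :=
    { toFun := fun a => ⟨((a : ↥S.A) : C), S.ker_pi a.2⟩
      map_one' := rfl
      map_mul' := fun _ _ => rfl }
  have hf : Function.Injective f := by
    intro a b h
    exact Subtype.ext (Subtype.ext (congrArg (fun t : ↥S.φ.ker => (t : C)) h))
  exact S.odd.of_dvd_nat (card_dvd_of_injective f hf)

/-- an element of `P` fixed by the 2-subgroup `R` lifts to an element of `A` commuting with `R` -/
theorem exists_fix (R : Subgroup C) (hR : IsPGroup 2 ↥R) {p : P} (hp : ∀ r ∈ R, S.φ r p = p) :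
    ∃ a : ↥S.A, S.π a = p ∧ ∀ r ∈ R, r * (a : C) = a * r := by
  have h2 : Fact (Nat.Prime 2) := ⟨Nat.prime_two⟩
  obtain ⟨a0, ha0⟩ := S.surj p
  let F : Type u := {a : ↥S.A // S.π a = p}
  let act : MulAction ↥R F :=
    { smul := fun r a => ⟨⟨r * a * (r : C)⁻¹, S.norm r _ (a : ↥S.A).2⟩, by rw [S.compat, a.2, hp r r.2]⟩
      one_smul := fun a => by
        apply Subtype.ext
        apply Subtype.ext
        change ((1 : ↥R) : C) * ((a : ↥S.A) : C) * ((1 : ↥R) : C)⁻¹ = _
        rw [coe_one, one_mul, inv_one, mul_one]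
      mul_smul := fun r s a => by
        apply Subtype.ext
        apply Subtype.ext
        change ((r * s : ↥R) : C) * ((a : ↥S.A) : C) * ((r * s : ↥R) : C)⁻¹ =
          r * (s * ((a : ↥S.A) : C) * (s : C)⁻¹) * (r : C)⁻¹
        rw [coe_mul]
        group }
  have hcard : Nat.card F = Nat.card ↥S.π.ker := by
    apply Nat.card_congr
    exact
      { toFun := fun a => ⟨a0⁻¹ * a, by rw [MonoidHom.mem_ker, map_mul, map_inv, ha0, a.2, inv_mul_cancel]⟩
        invFun := fun b => ⟨a0 * b, by rw [map_mul, ha0, MonoidHom.mem_ker.1 b.2, mul_one]⟩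
        left_inv := fun a => Subtype.ext (by simp)
        right_inv := fun b => Subtype.ext (by simp) }
  obtain ⟨a, ha⟩ := hR.nonempty_fixed_point_of_prime_not_dvd_card F (by
    rw [hcard]
    exact fun h => (Nat.not_even_iff_odd.2 S.odd_pi) (even_iff_two_dvd.2 h))
  refine ⟨a, a.2, fun r hr => ?_⟩
  have h3 := ha ⟨r, hr⟩
  have h4 : r * ((a : ↥S.A) : C) * r⁻¹ = ((a : ↥S.A) : C) := congrArg (fun z : F => ((z : ↥S.A) : C)) h3
  exact mul_inv_eq_iff_eq_mul.1 h4

/-- the power of a lift -/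
theorem exists_pow (a : ↥S.A) {n : ℕ} (hn : n ≠ 0) (h2 : n.Coprime (Nat.card ↥S.π.ker)) (hp : S.π a ^ n = 1) :
    ∃ m : ℕ, S.π (a ^ m) = S.π a ∧ (a ^ m) ^ n = 1 := by
  obtain ⟨m, hm1, hm2⟩ := Nat.chineseRemainder h2 1 0
  refine ⟨m, ?_, ?_⟩
  · rw [map_pow]
    have h3 : S.π a ^ m = S.π a ^ 1 := by
      apply pow_eq_pow_iff_modEq.2
      exact hm1.of_dvd (orderOf_dvd_of_pow_eq_one hp)
    rw [h3, pow_one]
  · have h4 : a ^ n ∈ S.π.ker := by rw [MonoidHom.mem_ker, map_pow, hp]
    have h5 : (a ^ n) ^ Nat.card ↥S.π.ker = 1 := by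
      have h6 : (⟨a ^ n, h4⟩ : ↥S.π.ker) ^ Nat.card ↥S.π.ker = 1 := pow_card_eq_one'
      exact congrArg Subtype.val h6
    obtain ⟨c, hc⟩ := (Nat.modEq_zero_iff_dvd).1 hm2
    rw [← pow_mul, mul_comm, pow_mul, hc, pow_mul, h5, one_pow]

/-- the lift can be chosen of the same order, if this is prime to the kernel -/
theorem exists_fix_pow (R : Subgroup C) (hR : IsPGroup 2 ↥R) {p : P} (hp : ∀ r ∈ R, S.φ r p = p) {n : ℕ} (hn : n ≠ 0)
    (h2 : n.Coprime (Nat.card ↥S.π.ker)) (hpn : p ^ n = 1) :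
    ∃ a : ↥S.A, S.π a = p ∧ a ^ n = 1 ∧ ∀ r ∈ R, r * (a : C) = a * r := by
  obtain ⟨a, ha, hc⟩ := S.exists_fix R hR hp
  obtain ⟨m, h3, h4⟩ := S.exists_pow a hn h2 (by rw [ha, hpn])
  refine ⟨a ^ m, by rw [h3, ha], h4, fun r hr => ?_⟩
  rw [coe_pow]
  exact (Commute.pow_right (show Commute r (a : C) from hc r hr) m).eq

theorem coprime_two_pow (k : ℕ) : (2 ^ k).Coprime (Nat.card ↥S.π.ker) :=
  (Nat.coprime_two_left.2 S.odd_pi).pow_left k

end Act

section rank

variable {X : Type u} [Group X]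

open Cfsg.Agent.H284.RankFix in
/-- **Harada's theorem for an involutory automorphism**, `V` a Sylow 2-subgroup of its centralizer. -/
theorem rank_fix [Finite X] {x : MulAut X} (hxx : x * x = 1) (hx1 : x ≠ 1) (V : Subgroup X)
    (hV : V ≤ fixedSubgroup x) (hc : ∀ a ∈ V, ∀ b ∈ V, a * b = b * a) (h2 : ∀ a ∈ V, a * a = 1)
    (h4 : Nat.card ↥V = 4)
    (hC : ∀ g ∈ fixedSubgroup x, (∀ v ∈ V, g * v = v * g) → (∃ k : ℕ, g ^ 2 ^ k = 1) → g ∈ V) :
    SectionalPRankLE 2 4 X := by
  have hfin : Finite (Y x) := Finite.of_equiv _ SemidirectProduct.equivProd.symm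
  have hox : orderOf x = 2 := by
    apply orderOf_eq_prime _ hx1
    rw [pow_two, hxx]
  have hzc : ∀ a b : ↥(zpowers x), a * b = b * a := fun a b =>
    (IsMulCommutative.is_comm (M := ↥(zpowers x))).comm a b
  have hzz : ∀ a : ↥(zpowers x), a * a = 1 := by
    intro a
    have h1 := pow_card_eq_one' (x := a)
    rw [Nat.card_zpowers, hox, pow_two] at h1
    exact h1
  set E := EE hV with hE
  have hfx : ∀ c : ↥(zpowers x), ∀ v ∈ V, (c : MulAut X) v = v := fun c v hv => fix_zpowers c.2 (hV hv)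
  have hmul : ∀ a b : Y x, a * b = ⟨a.left * (a.right : MulAut X) b.left, a.right * b.right⟩ := fun a b => rfl
  have hcE : ∀ a ∈ E, ∀ b ∈ E, a * b = b * a := by
    intro a ha b hb
    rw [hmul, hmul, hfx _ _ hb, hfx _ _ ha, hc _ ha _ hb, hzc]
  have h2E : ∀ a ∈ E, a * a = 1 := by
    intro a ha
    rw [hmul, hfx _ _ ha, h2 _ ha, hzz]
    rfl
  have hcard : Nat.card ↥E = 8 := by
    let f : ↥E ≃ ↥V × ↥(zpowers x) :=
      { toFun := fun a => (⟨(a : Y x).left, a.2⟩, (a : Y x).right)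
        invFun := fun b => ⟨⟨b.1, b.2⟩, b.1.2⟩
        left_inv := fun a => rfl
        right_inv := fun b => rfl }
    rw [Nat.card_congr f, Nat.card_prod, h4, Nat.card_zpowers, hox]
  have hEp : IsPGroup 2 ↥E := IsPGroup.of_card (n := 3) (by rw [hcard]; norm_num)
  obtain ⟨S, hES⟩ := hEp.exists_le_sylow
  have hr := OddHalf.D6.Harada.rank_of_self S E hES hcE h2E hcard (by
    intro s hsS hs
    -- `s` commutes with `x` and `V`
    have h1 : (⟨1, ⟨x, mem_zpowers x⟩⟩ : Y x) ∈ E := V.one_mem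
    have h3 := hs _ h1
    have h5 : s.left = x s.left := by
      have := congrArg SemidirectProduct.left h3
      rw [hmul, hmul] at this
      change s.left * (s.right : MulAut X) 1 = 1 * x s.left at this
      rwa [map_one, mul_one, one_mul] at this
    have hpow : ∀ n : ℕ, (s ^ n).left = s.left ^ n := by
      intro n
      induction n with
      | zero => rw [pow_zero, pow_zero]; rfl
      | succ n ih =>
        have e1 : (s ^ (n + 1)).left = (s ^ n).left * (((s ^ n).right : ↥(zpowers x)) : MulAut X) s.left := by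
          rw [pow_succ, hmul]
        have e2 : (((s ^ n).right : ↥(zpowers x)) : MulAut X) s.left = s.left :=
          fix_zpowers (s ^ n).right.2 (show s.left ∈ fixedSubgroup x from h5.symm)
        rw [e1, e2, ih, pow_succ]
    refine hC s.left h5.symm ?_ ?_
    · intro v hv
      have h6 : (⟨v, 1⟩ : Y x) ∈ E := hv
      have h7 := congrArg SemidirectProduct.left (hs _ h6)
      rw [hmul, hmul] at h7
      change s.left * (s.right : MulAut X) v = v * ((1 : ↥(zpowers x)) : MulAut X) s.left at h7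
      rw [hfx _ _ hv] at h7
      exact h7
    · obtain ⟨k, hk⟩ := S.isPGroup' ⟨s, hsS⟩
      refine ⟨k, ?_⟩
      rw [← hpow]
      have hk' : s ^ 2 ^ k = 1 := congrArg Subtype.val hk
      rw [hk']
      rfl)
  exact GH.Rank.of_injective hr (SemidirectProduct.inl : X →* Y x) SemidirectProduct.inl_injective

/-- the four-group generated by two commuting involutions -/
theorem mem_four_of {G : Type*} [Group G] {a b : G} (ha : a * a = 1) (hb : b * b = 1) (hab : a * b = b * a) {p : G → Prop}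
    (h1 : p 1) (h2 : p a) (h3 : p b) (h4 : p (a * b)) : ∀ x ∈ H284.RankFix.four a b ha hb hab, p x := by
  intro x hx
  rcases hx with rfl | rfl | rfl | rfl
  · exact h1
  · exact h2
  · exact h3
  · exact h4

/-- **The rank criterion**: two commuting involutions of `P` such that every automorphism of 2-power order fixing them is
the conjugation by an element of the four-group -/
theorem rank_of_act [Finite X] {x : MulAut X} (hxx : x * x = 1) (hx1 : x ≠ 1) {P : Type v} [Group P] [Finite P]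
    (S : Act ↥(fixedSubgroup x) P) {a b : P} (ha : a * a = 1) (hb : b * b = 1) (hab : a * b = b * a) (ha1 : a ≠ 1)
    (hb1 : b ≠ 1) (hne : a ≠ b)
    (hP : ∀ g : ↥(fixedSubgroup x), (∃ k : ℕ, g ^ 2 ^ k = 1) → S.φ g a = a → S.φ g b = b →
      ∃ c ∈ H284.RankFix.four a b ha hb hab, S.φ g = MulAut.conj c) : SectionalPRankLE 2 4 X := by
  -- lifts
  obtain ⟨v, hv, hv2, -⟩ := S.exists_fix_pow ⊥ (IsPGroup.of_bot) (p := a) (by
    intro r hr
    rw [mem_bot.1 hr, map_one, MulAut.one_apply]) two_ne_zero (S.coprime_two_pow 1) (by rw [pow_two, ha])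
  have hvv : (v : ↥(fixedSubgroup x)) * v = 1 := by
    have := congrArg Subtype.val hv2
    rwa [coe_pow, pow_two] at this
  have hRv : IsPGroup 2 ↥(zpowers (v : ↥(fixedSubgroup x))) := by
    have h1 : orderOf (v : ↥(fixedSubgroup x)) ∣ 2 ^ 1 := orderOf_dvd_of_pow_eq_one (by rw [pow_one, pow_two, hvv])
    obtain ⟨j, -, hj⟩ := (Nat.dvd_prime_pow Nat.prime_two).1 h1
    exact IsPGroup.of_card (n := j) (by rw [Nat.card_zpowers, hj])
  have hfixb : ∀ r ∈ zpowers (v : ↥(fixedSubgroup x)), S.φ r b = b := by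
    intro r hr
    obtain ⟨n, rfl⟩ := mem_zpowers_iff.1 hr
    have h1 : S.φ (v : ↥(fixedSubgroup x)) b = b := by
      rw [S.phi_coe, hv, MulAut.conj_apply, hab, mul_inv_cancel_right]
    have h2 : S.φ (v : ↥(fixedSubgroup x)) ∈ MulAction.stabilizer (MulAut P) b := h1
    rw [map_zpow]
    exact zpow_mem h2 n
  obtain ⟨w, hw, hw2, hvw⟩ := S.exists_fix_pow _ hRv hfixb two_ne_zero (S.coprime_two_pow 1) (by rw [pow_two, hb])
  have hww : (w : ↥(fixedSubgroup x)) * w = 1 := by
    have := congrArg Subtype.val hw2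
    rwa [coe_pow, pow_two] at this
  have hcomm : (v : ↥(fixedSubgroup x)) * w = w * v := hvw _ (mem_zpowers _)
  have hv1 : (v : ↥(fixedSubgroup x)) ≠ 1 := by
    intro h
    apply ha1
    rw [← hv, show v = 1 from Subtype.ext h, map_one]
  have hw1 : (w : ↥(fixedSubgroup x)) ≠ 1 := by
    intro h
    apply hb1
    rw [← hw, show w = 1 from Subtype.ext h, map_one]
  have hvw1 : (v : ↥(fixedSubgroup x)) ≠ w := by
    intro h
    apply hne
    rw [← hv, ← hw, show v = w from Subtype.ext h]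
  set V := H284.RankFix.four (v : ↥(fixedSubgroup x)) w hvv hww hcomm with hVdef
  refine rank_fix hxx hx1 (V.map (fixedSubgroup x).subtype) (map_subtype_le V) ?_ ?_ ?_ ?_
  · rintro _ ⟨a, ha, rfl⟩ _ ⟨b, hb, rfl⟩
    exact congrArg Subtype.val (H284.RankFix.comm_four a ha b hb)
  · rintro _ ⟨a, ha, rfl⟩
    exact congrArg Subtype.val (H284.RankFix.sq_four a ha)
  · rw [card_map_of_injective (fixedSubgroup x).subtype_injective]
    exact H284.RankFix.card_four hvv hww hcomm hv1 hw1 hvw1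
  · intro g hg hgv hk
    obtain ⟨k, hk⟩ := hk
    have hgV : ∀ u ∈ V, (⟨g, hg⟩ : ↥(fixedSubgroup x)) * u = u * ⟨g, hg⟩ := fun u hu =>
      Subtype.ext (hgv u ⟨u, hu, rfl⟩)
    have hgk : (⟨g, hg⟩ : ↥(fixedSubgroup x)) ^ 2 ^ k = 1 := Subtype.ext (by rw [coe_pow]; exact hk)
    have hfx : ∀ c : ↥S.A, (c : ↥(fixedSubgroup x)) ∈ V → S.φ ⟨g, hg⟩ (S.π c) = S.π c := by
      intro c hc
      rw [← S.compat]
      congr 1
      apply Subtype.ext
      change (⟨g, hg⟩ : ↥(fixedSubgroup x)) * c * (⟨g, hg⟩ : ↥(fixedSubgroup x))⁻¹ = c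
      rw [hgV _ hc, mul_inv_cancel_right]
    obtain ⟨c, hc, hgc⟩ := hP ⟨g, hg⟩ ⟨k, hgk⟩ (by rw [← hv]; exact hfx v (Or.inr (Or.inl rfl)))
      (by rw [← hw]; exact hfx w (Or.inr (Or.inr (Or.inl rfl))))
    -- the element of `V` over `c`
    have key : ∀ d : ↥S.A, (d : ↥(fixedSubgroup x)) ∈ V → S.π d = c → g ∈ V.map (fixedSubgroup x).subtype := by
      intro d hd hdc
      have h1 : S.φ ((d : ↥(fixedSubgroup x))⁻¹ * ⟨g, hg⟩) = 1 := by
        rw [map_mul, map_inv, S.phi_coe, hdc, hgc, inv_mul_cancel]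
      have hdd : (d : ↥(fixedSubgroup x)) * d = 1 := H284.RankFix.sq_four _ hd
      have h2 : ((d : ↥(fixedSubgroup x))⁻¹ * ⟨g, hg⟩) ^ 2 ^ (k + 1) = 1 := by
        have h3 : Commute (d : ↥(fixedSubgroup x))⁻¹ ⟨g, hg⟩ := (show Commute (d : ↥(fixedSubgroup x)) ⟨g, hg⟩ from
          (hgV _ hd).symm).inv_left
        rw [h3.mul_pow, pow_succ 2 k, pow_mul (⟨g, hg⟩ : ↥(fixedSubgroup x)), hgk, one_pow, mul_one, mul_comm (2 ^ k),
          pow_mul, inv_pow, pow_two, hdd, inv_one, one_pow]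
      have h3 := S.eq_one h1 h2
      rw [inv_mul_eq_one] at h3
      exact ⟨_, hd, congrArg Subtype.val h3⟩
    rcases hc with h | h | h | h
    · exact key 1 (Or.inl rfl) (by rw [map_one, h])
    · exact key v (Or.inr (Or.inl rfl)) (by rw [hv, h])
    · exact key w (Or.inr (Or.inr (Or.inl rfl))) (by rw [hw, h])
    · exact key (v * w) (Or.inr (Or.inr (Or.inr rfl))) (by rw [map_mul, hv, hw, h])

end rank

section comp

open scoped commutatorElement

variable {C : Type u} [Group C]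

/-- an automorphism trivial on `A / Z(A)`, `A` perfect, is trivial -/
theorem eq_one_of_bar {N : Type u} [Group N] (hN : commutator N = ⊤) (τ : MulAut N)
    (h1 : ∀ x : N, x⁻¹ * τ x ∈ center N) : τ = 1 := by
  have h2 : (⊤ : Subgroup N) ≤ fixedSubgroup τ := by
    rw [← hN, _root_.commutator_def, commutator_le]
    intro x _ y _
    change τ ⁅x, y⁆ = ⁅x, y⁆
    obtain ⟨c, hc, hx⟩ : ∃ c ∈ center N, τ x = x * c := ⟨_, h1 x, by group⟩
    obtain ⟨d, hd, hy⟩ : ∃ c ∈ center N, τ y = y * c := ⟨_, h1 y, by group⟩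
    rw [mem_center_iff] at hc hd
    rw [commutatorElement_def, map_mul, map_mul, map_mul, map_inv, map_inv, hx, hy, mul_inv_rev, mul_inv_rev]
    have e1 : x * c * (y * d) * (c⁻¹ * x⁻¹) * (d⁻¹ * y⁻¹) = x * y * x⁻¹ * y⁻¹ := by
      calc x * c * (y * d) * (c⁻¹ * x⁻¹) * (d⁻¹ * y⁻¹) = x * (c * (y * d)) * (c⁻¹ * x⁻¹) * (d⁻¹ * y⁻¹) := by group
        _ = x * ((y * d) * c) * (c⁻¹ * x⁻¹) * (d⁻¹ * y⁻¹) := by rw [hc (y * d)]
        _ = x * y * (d * x⁻¹) * d⁻¹ * y⁻¹ := by group
        _ = x * y * (x⁻¹ * d) * d⁻¹ * y⁻¹ := by rw [← hd x⁻¹]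
        _ = x * y * x⁻¹ * y⁻¹ := by group
    exact e1
  ext x
  exact h2 (mem_top x)

/-- the action of `C` on `A / Z(A) ≃ P` -/
noncomputable def barHom {A : Subgroup C} (hn : A.Normal) {P : Type v} [Group P] (e : ↥A ⧸ center ↥A ≃* P) :
    C →* MulAut P where
  toFun g := MulAut.congr e (QuotientGroup.congr (center ↥A) (center ↥A) (MulAut.conjNormal g : MulAut ↥A)
    (Subgroup.characteristic_iff_map_eq.1 inferInstance (MulAut.conjNormal g : MulAut ↥A)))
  map_one' := by
    ext p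
    obtain ⟨q, rfl⟩ := e.surjective p
    obtain ⟨a, rfl⟩ := QuotientGroup.mk_surjective q
    simp [MulAut.congr]
  map_mul' g h := by
    ext p
    obtain ⟨q, rfl⟩ := e.surjective p
    obtain ⟨a, rfl⟩ := QuotientGroup.mk_surjective q
    simp [MulAut.congr]
    rfl

theorem barHom_apply {A : Subgroup C} (hn : A.Normal) {P : Type v} [Group P] (e : ↥A ⧸ center ↥A ≃* P) (g : C) (a : ↥A) :
    barHom hn e g (e (QuotientGroup.mk a)) = e (QuotientGroup.mk ((MulAut.conjNormal g : MulAut ↥A) a)) := by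
  simp [barHom, MulAut.congr]
  rfl

/-- **The action for a normal quasisimple subgroup centralized by no involution.** -/
noncomputable def ofComp [Finite C] {A : Subgroup C} (hn : A.Normal) (hA : IsQuasisimple ↥A) {P : Type v} [Group P]
    (e : ↥A ⧸ center ↥A ≃* P) (ho : ∀ u : C, orderOf u = 2 → u ∉ centralizer (A : Set C)) : Act C P where
  A := A
  norm := fun g a ha => hn.conj_mem a ha g
  π := e.toMonoidHom.comp (QuotientGroup.mk' (center ↥A))
  surj := e.surjective.comp (QuotientGroup.mk'_surjective _)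
  φ := barHom hn e
  compat := fun g a => by
    change e (QuotientGroup.mk _) = barHom hn e g (e (QuotientGroup.mk a))
    rw [barHom_apply]
    rfl
  odd := by
    rw [← Nat.not_even_iff_odd]
    intro h
    have : Fact (Nat.Prime 2) := ⟨Nat.prime_two⟩
    obtain ⟨u, hu⟩ := exists_prime_orderOf_dvd_card' (G := ↥(barHom hn e).ker) 2 (even_iff_two_dvd.1 h)
    apply ho (u : C) (by rw [orderOf_coe, hu])
    have h1 : (MulAut.conjNormal (u : C) : MulAut ↥A) = 1 := by
      refine eq_one_of_bar hA.1.commutator_eq_top _ ?_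
      intro a
      have h2 : barHom hn e (u : C) (e (QuotientGroup.mk a)) = e (QuotientGroup.mk a) := by
        rw [MonoidHom.mem_ker.1 u.2, MulAut.one_apply]
      rw [barHom_apply] at h2
      exact QuotientGroup.eq.1 (e.injective h2).symm
    rw [mem_centralizer_iff]
    intro a ha
    have h2 := congrArg (fun t : MulAut ↥A => ((t ⟨a, ha⟩ : ↥A) : C)) h1
    simp only [MulAut.conjNormal_apply, MulAut.one_apply] at h2
    exact (mul_inv_eq_iff_eq_mul.1 h2).symm

end comp

end Cfsg.Agent.H300.SporBase
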