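import Cfsg.Agent.H300.SporIn
import Cfsg.Agent.H300.OutONSq
import Cfsg.Agent.H300.OuterHS
import Cfsg.Agent.H300.OuterJTwo
import Cfsg.Agent.H300.OuterJThree
import Cfsg.Agent.H300.OuterMcL
import Cfsg.Agent.H291.FiOut
import Cfsg.Agent.OddHalf.NI.Ex.Plug
import Cfsg.Agent.H246.TitsInner
import Cfsg.Agent.CpAut.TwoFrame
import Cfsg.Agent.H815.OuterHN
import Cfsg.Agent.S2060
import Cfsg.Agent.S2063
import Cfsg.Agent.S2064
import Cfsg.Agent.S2065
import Cfsg.Agent.S2068
import Cfsg.Agent.S2069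
import Cfsg.Agent.S2070
import Cfsg.Agent.S2071
import Cfsg.Agent.S2076
import Cfsg.Agent.S2077
import Cfsg.Agent.S2080
import Cfsg.Agent.S2083
import Cfsg.Agent.S2084
import Cfsg.Agent.S2085

/-!
# Components with Sylow 2-subgroups `D_8` : the outer involutory automorphisms of the sporadic groups (helper300)
-/

set_option autoImplicit false
set_option linter.unusedSectionVars false

namespace Cfsg.Agent.H300.SporOut

open Subgroup Cfsg Matrix
open Cfsg.Agent.H287 Cfsg.Agent.NotCT Cfsg.Agent.H291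
open Cfsg.Agent.H300.D8Base Cfsg.Agent.H300.SporBase Cfsg.Agent.H300.SixRow Cfsg.Agent.H300.KillLem
open Cfsg.Agent.OrdDiv

universe u

variable {X : Type u} [Group X] [Finite X]

/-- the situation: `A` is a normal component of `C_X(x)` with `A/Z(A) = L₂(F)`, and no involution of `C_X(x)`
centralizes `A`. -/
structure Sit (x : MulAut X) (A : Subgroup ↥(fixedSubgroup x)) (F : Type) [Field F] [Fintype F] where
  hx : orderOf x = 2
  out : ¬ ∃ g, x = MulAut.conj g
  comp : IsComponent A
  norm : A.Normal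
  d8 : D8 ↥A
  odd : Odd (Nat.card ↥(center ↥A))
  hF : Odd (Fintype.card F)
  h3 : 3 < Fintype.card F
  e : ↥A ⧸ center ↥A ≃* ProjectiveSpecialLinearGroup (Fin 2) F
  ho : ∀ u : ↥(fixedSubgroup x), orderOf u = 2 → u ∉ centralizer (A : Set ↥(fixedSubgroup x))

namespace Sit

variable {x : MulAut X} {A : Subgroup ↥(fixedSubgroup x)} {F : Type} [Field F] [Fintype F] (S : Sit x A F)

include S

theorem hxx : x * x = 1 := by rw [← pow_two, ← S.hx, pow_orderOf_eq_one]

theorem hx1 : x ≠ 1 := by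
  intro h
  have := S.hx
  rw [h, orderOf_one] at this
  exact absurd this (by norm_num)

/-- the action -/
noncomputable def act : Act ↥(fixedSubgroup x) (ProjectiveSpecialLinearGroup (Fin 2) F) :=
  ofComp S.norm S.comp.2 S.e S.ho

theorem card_bar : Nat.card (ProjectiveSpecialLinearGroup (Fin 2) F) * Nat.card ↥(center ↥A) = Nat.card ↥A := by
  rw [← Nat.card_congr S.e.toEquiv]
  exact (card_eq_card_quotient_mul_card_subgroup _).symm

theorem dvd_X : Nat.card (ProjectiveSpecialLinearGroup (Fin 2) F) ∣ Nat.card X :=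
  ((Dvd.intro _ S.card_bar).trans (card_subgroup_dvd_card A)).trans (card_subgroup_dvd_card _)

theorem not_sixteen : ¬ 16 ∣ Nat.card (ProjectiveSpecialLinearGroup (Fin 2) F) := fun h =>
  S.d8.not_dvd (h.trans (Dvd.intro _ S.card_bar))

theorem eight : 8 ∣ Nat.card (ProjectiveSpecialLinearGroup (Fin 2) F) := by
  have h1 := S.d8.dvd
  rw [← S.card_bar] at h1
  exact ((Nat.coprime_two_left.2 S.odd).pow_left 3).dvd_of_dvd_mul_right h1

theorem no_out (h : ∀ α : MulAut X, ∃ g : X, α = MulAut.conj g) : False := S.out (h x)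

theorem card_of_out {T : ℕ → ℕ → Prop} (h : OutCard T X) (hT : ∀ a b, T a b → 8 ∣ a → ¬ 16 ∣ a → False) : False :=
  hT _ _ (h x S.hx S.out A S.comp) S.d8.dvd S.d8.not_dvd

theorem no_e16 (E : Subgroup X) (h1 : E ≤ fixedSubgroup x) (h2 : ∀ a ∈ E, a * a = 1) (h3 : Nat.card ↥E = 16) : False := by
  refine no_sixteen S.hF S.act (E.subgroupOf (fixedSubgroup x)) ?_ ?_
  · rintro ⟨a, ha⟩ hE
    exact Subtype.ext (h2 a hE)
  · rw [Nat.card_congr (subgroupOfEquivOfLe h1).toEquiv, h3]

theorem no_64 : ¬ 64 ∣ Nat.card ↥(fixedSubgroup x) := no_sixty_four S.hF S.h3 S.not_sixteen S.act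

/-- the test for the candidates -/
def tst (q : ℕ) : Bool :=
  (q % 2 == 0) || !((q * (q ^ 2 - 1) / 2) % 8 == 0) || ((q * (q ^ 2 - 1) / 2) % 16 == 0) || q == 7 || q == 9

omit S in
theorem card_psl (hF : Odd (Fintype.card F)) : Nat.card (ProjectiveSpecialLinearGroup (Fin 2) F) =
    Fintype.card F * (Fintype.card F ^ 2 - 1) / 2 := by
  have h := SmallSimple.PSLTwoPart.card_psl_two_odd hF
  omega

theorem q_of {l : List (ℕ × ℕ)} {N : ℕ} (hv : valid l N = true) (hN : Nat.card X = N)
    (ht : (cand l N fPSL).all (fun y => !(y.1 == 2) || tst y.2) = true) : Fintype.card F = 7 ∨ Fintype.card F = 9 := by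
  have h1 := (psl_mem hv le_rfl (fun _ => S.h3) (hN ▸ S.dvd_X)).1
  have h2 := List.all_eq_true.1 ht _ h1
  have h3 := S.hF
  have h4 := S.eight
  have h5 := S.not_sixteen
  rw [card_psl S.hF] at h4 h5
  simp only [beq_self_eq_true, Bool.not_true, Bool.false_or, tst, Bool.or_eq_true, Bool.not_eq_true', beq_iff_eq,
    beq_eq_false_iff_ne, ne_eq] at h2
  rw [Nat.odd_iff] at h3
  omega

/-- the conclusion for `q ∈ {7, 9}` -/
theorem of_six (h : Fintype.card F = 7 ∨ Fintype.card F = 9)
    (h9 : ∀ (S' : Act ↥(fixedSubgroup x) (alternatingGroup (Fin 6))) (s : ↥(fixedSubgroup x)), Six S' s → False) :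
    SectionalPRankLE 2 4 X := by
  rcases h with h | h
  · exact rank_seven S.hxx S.hx1 h S.act
  · obtain ⟨e⟩ := S0254.result h
    rcases dich S.hxx S.hx1 (S.act.congr e) with h1 | ⟨s, hs⟩
    · exact h1
    · exact (h9 _ s hs).elim

theorem q_j2 (h : Spor.IsoJ2 X) : Fintype.card F = 7 ∨ Fintype.card F = 9 :=
  S.q_of (l := [(2, 7), (3, 3), (5, 2), (7, 1)]) (by decide +kernel) (Orders.j2 h) (by decide +kernel)

theorem q_mcl (h : Spor.IsoMcL X) : Fintype.card F = 7 ∨ Fintype.card F = 9 :=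
  S.q_of (l := [(2, 7), (3, 6), (5, 3), (7, 1), (11, 1)]) (by decide +kernel) (Orders.mcl h) (by decide +kernel)

theorem q_he (h : Spor.IsoHe X) : Fintype.card F = 7 ∨ Fintype.card F = 9 :=
  S.q_of (l := [(2, 10), (3, 3), (5, 2), (7, 3), (17, 1)]) (by decide +kernel) (Orders.he h) (by decide +kernel)

theorem q_hn (h : Spor.IsoHN X) : Fintype.card F = 7 ∨ Fintype.card F = 9 :=
  S.q_of (l := [(2, 14), (3, 6), (5, 6), (7, 1), (11, 1), (19, 1)]) (by decide +kernel) (Orders.hn h) (by decide +kernel)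

theorem q_j3 (h : Spor.IsoJ3 X) : Fintype.card F = 7 ∨ Fintype.card F = 9 :=
  S.q_of (l := [(2, 7), (3, 5), (5, 1), (17, 1), (19, 1)]) (by decide +kernel) (Orders.j3 h) (by decide +kernel)

theorem five (h : Fintype.card F = 9) : ∃ w : X, x w = w ∧ orderOf w = 5 := by
  have h5 : Fact (Nat.Prime 5) := ⟨by norm_num⟩
  have h1 : 5 ∣ Nat.card ↥A := by
    rw [← S.card_bar, card_psl S.hF, h]
    exact Dvd.dvd.mul_right (by norm_num) _
  obtain ⟨a, ha⟩ := exists_prime_orderOf_dvd_card' 5 h1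
  refine ⟨((a : ↥(fixedSubgroup x)) : X), (a : ↥(fixedSubgroup x)).2, ?_⟩
  rw [Subgroup.orderOf_coe, Subgroup.orderOf_coe, ha]

theorem row_j3 (h : Spor.IsoJ3 X) : SectionalPRankLE 2 4 X := by
  rcases S.q_j3 h with h7 | h9
  · exact rank_seven S.hxx S.hx1 h7 S.act
  · obtain ⟨w, hw, h5⟩ := S.five h9
    exact (OuterJThree.no_five h S.hxx S.out hw h5).elim

theorem four : ∃ w : X, x w = w ∧ w ^ 4 = 1 ∧ w * w ≠ 1 := by
  obtain ⟨P⟩ : Nonempty (Sylow 2 ↥A) := inferInstance
  obtain ⟨e⟩ := S.d8 P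
  have h1 : e.symm (DihedralGroup.r 1) ^ 4 = 1 := by
    rw [← map_pow, show (DihedralGroup.r 1 : DihedralGroup 4) ^ 4 = 1 from by decide +kernel, map_one]
  have h2 : e.symm (DihedralGroup.r 1) * e.symm (DihedralGroup.r 1) ≠ 1 := by
    rw [← map_mul]
    intro h
    have h3 := e.symm.injective (h.trans (map_one _).symm)
    revert h3
    decide +kernel
  set a := e.symm (DihedralGroup.r 1)
  refine ⟨(((a : ↥A) : ↥(fixedSubgroup x)) : X), ((a : ↥A) : ↥(fixedSubgroup x)).2, ?_, ?_⟩
  · have h3 := congrArg (fun y : ↥(P : Subgroup ↥A) => ((((y : ↥A) : ↥(fixedSubgroup x)) : X))) h1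
    exact h3
  · intro h3
    exact h2 (Subtype.ext (Subtype.ext (Subtype.ext h3)))

theorem row_on (h : Spor.IsoON X) : False := by
  obtain ⟨w, hw, h4, h2⟩ := S.four
  exact h2 (OutONSq.sq_eq_one h S.hx S.out hw (k := 2) h4)

theorem row_fi24 (h : Spor.IsoFi24' X) : False :=
  S.card_of_out (FiOut.outCard h) fun a b h => by
    unfold FiOut.SF at h
    omega

theorem row_m12 (h : Spor.IsoM12 X) : False :=
  S.card_of_out (outCard_m12 h) fun a b h => by omega

theorem row_m22 (h : Spor.IsoM22 X) : False := by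
  rcases OddHalf.NI.Ex.RowM22.exists_sixteen h S.hxx with ⟨g, hg⟩ | ⟨E, h1, h2, h3⟩
  · exact S.out ⟨g, hg⟩
  · exact S.no_e16 E (fun a ha => h1 ha) h2 h3

theorem row_hs (h : Spor.IsoHS X) : False := by
  rcases OuterHS.e16 h S.hx S.out with h1 | ⟨E, h1, h2, h3⟩
  · have h4 := S.d8.not_dvd
    rw [h1 A S.comp] at h4
    exact h4 (by norm_num)
  · exact S.no_e16 E h1 h2 h3

/-- **The outer rows.** -/
theorem main (hsuz : Spor.IsoSuz X → False) (hfi : Spor.IsoFi22 X → False)
    (hhe : Spor.IsoHe X → ∀ (S' : Act ↥(fixedSubgroup x) (alternatingGroup (Fin 6))) (s : ↥(fixedSubgroup x)),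
      Six S' s → False)
    (h : IsSporadicGroup X ∨ Lie.IsoTits X) : SectionalPRankLE 2 4 X := by
  rcases h with h | h
  · rcases h with h | h | h | h | h | h | h | h | h | h | h | h | h | h | h | h | h | h | h | h | h | h | h | h | h | h
    · obtain ⟨e⟩ := h
      exact (S.no_out (CpAut.TwoInner.inner_congr e fun α => inner_of_out S2060.result α)).elim
    · exact (S.row_m12 h).elim
    · exact (S.row_m22 h).elim
    · obtain ⟨e⟩ := h
      exact (S.no_out (CpAut.TwoInner.inner_congr e fun α => inner_of_out S2063.result α)).elim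
    · obtain ⟨e⟩ := h
      exact (S.no_out (CpAut.TwoInner.inner_congr e fun α => inner_of_out S2064.result α)).elim
    · obtain ⟨e⟩ := h
      exact (S.no_out (CpAut.TwoInner.inner_congr e fun α => inner_of_out S2065.result α)).elim
    · exact S.of_six (S.q_j2 h) fun S' s hs => OuterJTwo.six h S.hxx S.out hs
    · exact S.row_j3 h
    · obtain ⟨e⟩ := h
      exact (S.no_out (CpAut.TwoInner.inner_congr e fun α => inner_of_out S2068.result α)).elim
    · obtain ⟨e⟩ := h
      exact (S.no_out (CpAut.TwoInner.inner_congr e fun α => inner_of_out S2069.result α)).elim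
    · obtain ⟨e⟩ := h
      exact (S.no_out (CpAut.TwoInner.inner_congr e fun α => inner_of_out S2070.result α)).elim
    · obtain ⟨e⟩ := h
      exact (S.no_out (CpAut.TwoInner.inner_congr e fun α => inner_of_out S2071.result α)).elim
    · exact S.of_six (S.q_mcl h) fun S' s hs => OuterMcL.six h S.out hs
    · exact (S.row_hs h).elim
    · exact (hsuz h).elim
    · exact S.of_six (S.q_he h) (hhe h)
    · obtain ⟨e⟩ := h
      exact (S.no_out (CpAut.TwoInner.inner_congr e fun α => inner_of_out S2077.result α)).elim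
    · exact (S.row_on h).elim
    · obtain ⟨e⟩ := h
      exact (S.no_out (CpAut.TwoInner.inner_congr e fun α => inner_of_out S2076.result α)).elim
    · exact (hfi h).elim
    · obtain ⟨e⟩ := h
      exact (S.no_out (CpAut.TwoInner.inner_congr e fun α => inner_of_out S2080.result α)).elim
    · exact (S.row_fi24 h).elim
    · exact S.of_six (S.q_hn h) fun S' s hs => H815.OuterHN.outer_hn h S.hxx S' s hs.ss fun p => by
        rw [hs.act, show (Equiv.swap (4 : Fin 6) 5)⁻¹ = Equiv.swap 4 5 from Equiv.swap_inv _ _]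
        rfl
    · obtain ⟨e⟩ := h
      exact (S.no_out (CpAut.TwoInner.inner_congr e fun α => inner_of_out S2083.result α)).elim
    · obtain ⟨e⟩ := h
      exact (S.no_out (CpAut.TwoInner.inner_congr e fun α => inner_of_out S2084.result α)).elim
    · obtain ⟨e⟩ := h
      exact (S.no_out (CpAut.TwoInner.inner_congr e fun α => inner_of_out S2085.result α)).elim
  · obtain ⟨g, hg⟩ := H246.TitsInner.inner_iso h x S.hxx
    exact (S.out ⟨g, hg⟩).elim

end Sit

end Cfsg.Agent.H300.SporOut
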