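import Cfsg.Agent.SylowSp4.Recog
import Cfsg.Agent.H284.RankFix

/-!
# The sectional 2-rank of `PSp₄(q)`, `q` odd, is at most four (helper300)
-/

set_option autoImplicit false

namespace Cfsg.Agent.H300.RankSp4

open Subgroup Cfsg QuaternionGroup Cfsg.Agent.SylowSp4.Coord

section quat

variable {k : ℕ} {m : ZMod (2 * 2 ^ k)}

theorem dbl (hm : m + m = ((2 ^ k : ℕ) : ZMod (2 * 2 ^ k))) {t : ZMod (2 * 2 ^ k)}
    (h : t + t = ((2 ^ k : ℕ) : ZMod (2 * 2 ^ k))) : t = m ∨ t = m + ((2 ^ k : ℕ) : ZMod (2 * 2 ^ k)) := by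
  have h1 : (t - m) + (t - m) = 0 := by linear_combination h - hm
  rcases eq_of_add_self h1 with h2 | h2
  · left; linear_combination h2
  · right; linear_combination h2

/-- an element commuting up to sign with `i` and `j` -/
theorem cls (hm : m + m = ((2 ^ k : ℕ) : ZMod (2 * 2 ^ k))) {g : Q k} :
    (g * a m = a m * g → g * xa 0 = xa 0 * g → g = 1 ∨ g = z k) ∧
    (g * a m = a m * g → g * xa 0 = z k * (xa 0 * g) → g = a m ∨ g = z k * a m) ∧
    (g * a m = z k * (a m * g) → g * xa 0 = xa 0 * g → g = xa 0 ∨ g = z k * xa 0) ∧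
    (g * a m = z k * (a m * g) → g * xa 0 = z k * (xa 0 * g) → g = a m * xa 0 ∨ g = z k * (a m * xa 0)) := by
  have hz := two_pow_add (k := k)
  have hz0 := half_ne_zero (k := k)
  rcases g with t | t
  · refine ⟨fun _ h => ?_, fun _ h => ?_, fun h _ => ?_, fun h _ => ?_⟩
    · rw [a_mul_xa, xa_mul_a] at h
      have h1 := QuaternionGroup.xa.inj h
      have h2 : t + t = 0 := by linear_combination -h1
      rcases eq_of_add_self h2 with h3 | h3
      · left; rw [h3, one_def]
      · right; rw [h3, z]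
    · rw [a_mul_xa, xa_mul_a, z, a_mul_xa] at h
      have h1 := QuaternionGroup.xa.inj h
      have h2 : t + t = ((2 ^ k : ℕ) : ZMod (2 * 2 ^ k)) := by linear_combination -h1
      rcases dbl hm h2 with h3 | h3
      · left; rw [h3]
      · right; rw [h3, z, a_mul_a, add_comm]
    · exfalso
      rw [a_mul_a, z, a_mul_a, a_mul_a] at h
      have h1 := QuaternionGroup.a.inj h
      exact hz0 (by linear_combination -h1)
    · exfalso
      rw [a_mul_a, z, a_mul_a, a_mul_a] at h
      have h1 := QuaternionGroup.a.inj h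
      exact hz0 (by linear_combination -h1)
  · refine ⟨fun h _ => ?_, fun h _ => ?_, fun _ h => ?_, fun _ h => ?_⟩
    · exfalso
      rw [xa_mul_a, a_mul_xa] at h
      have h1 := QuaternionGroup.xa.inj h
      exact hz0 (by linear_combination h1 - hm)
    · exfalso
      rw [xa_mul_a, a_mul_xa] at h
      have h1 := QuaternionGroup.xa.inj h
      exact hz0 (by linear_combination h1 - hm)
    · rw [xa_mul_xa, xa_mul_xa] at h
      have h1 := QuaternionGroup.a.inj h
      have h2 : t + t = 0 := by linear_combination -h1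
      rcases eq_of_add_self h2 with h3 | h3
      · left; rw [h3]
      · right
        rw [h3, z, a_mul_xa]
        congr 1
        linear_combination hz
    · rw [xa_mul_xa, xa_mul_xa, z, a_mul_a] at h
      have h1 := QuaternionGroup.a.inj h
      have h2 : t + t = ((2 ^ k : ℕ) : ZMod (2 * 2 ^ k)) := by linear_combination -h1 - hz
      rcases dbl hm h2 with h3 | h3
      · right
        rw [h3, a_mul_xa, z, a_mul_xa]
        congr 1
        linear_combination hm + hz
      · left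
        rw [h3, a_mul_xa]
        congr 1
        linear_combination hm + hz

end quat

variable {G : Type*} [Group G] {S : Subgroup G} {k : ℕ} {f : Q k → Q k → G} {s : G}

/-- **The rank in coordinates** -/
theorem rank_of_coord [Finite G] (P : Sylow 2 G) (h : TSp (P : Subgroup G) k f s) : SectionalPRankLE 2 4 G := by
  obtain ⟨n, rfl⟩ : ∃ n, k = n + 1 := ⟨k - 1, by have := h.hk; omega⟩
  obtain ⟨m, hm⟩ : ∃ m : ZMod (2 * 2 ^ (n + 1)), m + m = ((2 ^ (n + 1) : ℕ) : ZMod (2 * 2 ^ (n + 1))) :=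
    ⟨((2 ^ n : ℕ) : ZMod (2 * 2 ^ (n + 1))), by rw [← Nat.cast_add]; congr 1; ring⟩
  -- the elements
  set i : Q (n + 1) := a m with hi
  set j : Q (n + 1) := xa 0 with hj
  set zz : Q (n + 1) := z (n + 1) with hzz
  have zc : ∀ g : Q (n + 1), zz * g = g * zz := z_comm
  have z2 : zz * zz = 1 := z_mul_z
  have zne : zz ≠ 1 := z_ne_one
  have hii : i * i = zz := by rw [hi, a_mul_a, hm, hzz, z]
  have hjj : j * j = zz := xa_sq 0
  have hij : i * j = zz * (j * i) := by
    rw [hi, hj, a_mul_xa, xa_mul_a, hzz, z, a_mul_xa]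
    congr 1
    linear_combination -hm
  have hjne : ∀ t : ZMod (2 * 2 ^ (n + 1)), (xa t : Q (n + 1)) ≠ 1 ∧ (xa t : Q (n + 1)) ≠ zz := by
    intro t
    refine ⟨fun h => ?_, fun h => ?_⟩
    · rw [one_def] at h
      cases h
    · rw [hzz, z] at h
      cases h
  have zl : ∀ g g' : Q (n + 1), g * (zz * g') = zz * (g * g') := by
    intro g g'
    rw [← mul_assoc, ← zc, mul_assoc]
  obtain ⟨l, hl⟩ : ∃ l : Q (n + 1), l = i * j := ⟨_, rfl⟩
  have hji : j * i = zz * l := by rw [hl, hij, ← mul_assoc, z2, one_mul]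
  have hjl : j * l = i := by
    rw [hl, ← mul_assoc, hji, hl, mul_assoc, mul_assoc, hjj, ← zc, ← mul_assoc, z2, one_mul]
  have hlj : l * j = zz * i := by rw [hl, mul_assoc, hjj, zc]
  have hll : l * l = zz := by
    nth_rewrite 1 [hl]
    rw [mul_assoc, hjl, hii]
  have hil : i * l = zz * j := by rw [hl, ← mul_assoc, hii]
  have hli : l * i = j := by
    rw [hl, mul_assoc, hji, zl, hil, ← mul_assoc, z2, one_mul]
  obtain ⟨c1, c2, c3, c4⟩ : (∀ g : Q (n + 1), g * i = i * g → g * j = j * g → g = 1 ∨ g = zz) ∧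
    (∀ g : Q (n + 1), g * i = i * g → g * j = zz * (j * g) → g = i ∨ g = zz * i) ∧
    (∀ g : Q (n + 1), g * i = zz * (i * g) → g * j = j * g → g = j ∨ g = zz * j) ∧
    (∀ g : Q (n + 1), g * i = zz * (i * g) → g * j = zz * (j * g) → g = l ∨ g = zz * l) := by
    rw [hl]
    exact ⟨fun g => (cls hm).1, fun g => (cls hm).2.1, fun g => (cls hm).2.2.1, fun g => (cls hm).2.2.2⟩
  have hno : ∀ g : Q (n + 1), g * j ≠ i * g ∧ g * j ≠ zz * (i * g) := by
    intro g
    rw [hi, hj, hzz, z]
    rcases g with t | t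
    · refine ⟨fun h => ?_, fun h => ?_⟩
      · rw [a_mul_xa, a_mul_a] at h; cases h
      · rw [a_mul_xa, a_mul_a, a_mul_a] at h; cases h
    · refine ⟨fun h => ?_, fun h => ?_⟩
      · rw [xa_mul_xa, a_mul_xa] at h; cases h
      · rw [xa_mul_xa, a_mul_xa, a_mul_xa] at h; cases h
  have hlx : ∃ t, l = xa t := ⟨_, by rw [hl, hi, hj, a_mul_xa]⟩
  have fz : ∀ a b, f (zz * a) (zz * b) = f a b := by
    intro a b
    rw [← h.f_mul, h.f_zz, one_mul]
  -- the generators
  set p := f i j with hp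
  set q := f j l with hq
  set w := f zz 1 with hw
  have hw' : f 1 zz = w := by rw [hw, ← fz zz 1, z2, mul_one]
  have hww : w * w = 1 := by rw [hw, h.f_mul, z2, one_mul, h.f_one]
  have hpp : p * p = 1 := by rw [hp, h.f_mul, hii, hjj, h.f_zz]
  have hqq : q * q = 1 := by rw [hq, h.f_mul, hjj, hll, h.f_zz]
  have hpq' : p * q = f l i := by rw [hp, hq, h.f_mul, hjl, ← hl]
  have hpq : p * q = q * p := by
    rw [hpq', hp, hq, h.f_mul, hji, hlj, fz]
  have hwf : ∀ a b, w * f a b = f (zz * a) b := by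
    intro a b
    rw [hw, h.f_mul, one_mul]
  have hfw : ∀ a b, f a b * w = f (zz * a) b := by
    intro a b
    rw [hw, h.f_mul, mul_one, zc]
  have hfz : ∀ a b, f a (zz * b) = w * f a b := by
    intro a b
    rw [← hw', h.f_mul, one_mul]
  have one_ne : (1 : Q (n + 1)) ≠ zz := fun h => zne h.symm
  have hp1 : p ≠ 1 := by
    rw [← h.f_one, hp]
    intro h1
    rcases h.f_inj _ _ _ _ h1 with ⟨-, h2⟩ | ⟨-, h2⟩
    · exact (hjne 0).1 h2
    · rw [mul_one] at h2
      exact (hjne 0).2 h2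
  have hq1 : q ≠ 1 := by
    rw [← h.f_one, hq]
    intro h1
    rcases h.f_inj _ _ _ _ h1 with ⟨h2, -⟩ | ⟨h2, -⟩
    · exact (hjne 0).1 h2
    · rw [mul_one] at h2
      exact (hjne 0).2 h2
  have hpne : p ≠ q := by
    intro h1
    have h2 : p * q = 1 := by rw [h1, hqq]
    rw [hpq', ← h.f_one] at h2
    obtain ⟨t, ht⟩ := hlx
    rcases h.f_inj _ _ _ _ h2 with ⟨h2, -⟩ | ⟨h2, -⟩
    · exact (hjne t).1 (ht ▸ h2)
    · rw [mul_one] at h2
      exact (hjne t).2 (ht ▸ h2)
  -- the subgroup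
  let E : Subgroup G := (P : Subgroup G) ⊓ centralizer ({p, q} : Set G)
  have hmf : ∀ a b, f a b ∈ (P : Subgroup G) := fun a b => (h.mem_iff _).2 (Or.inl ⟨a, b, rfl⟩)
  have hE : ∀ g, g ∈ E ↔ g ∈ (P : Subgroup G) ∧ g * p = p * g ∧ g * q = q * g := by
    intro g
    rw [mem_inf, mem_centralizer_iff]
    constructor
    · rintro ⟨h1, h2⟩
      exact ⟨h1, (h2 p (Or.inl rfl)).symm, (h2 q (Or.inr rfl)).symm⟩
    · rintro ⟨h1, h2, h3⟩
      refine ⟨h1, ?_⟩
      rintro x (rfl | hx)
      · exact h2.symm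
      · rw [Set.mem_singleton_iff] at hx
        rw [hx]
        exact h3.symm
  have hpE : p ∈ E := (hE p).2 ⟨hmf _ _, rfl, hpq⟩
  have hqE : q ∈ E := (hE q).2 ⟨hmf _ _, hpq.symm, rfl⟩
  have hwc : ∀ a b, w * f a b = f a b * w := by
    intro a b
    rw [hwf, hfw]
  have hwE : w ∈ E := (hE w).2 ⟨hmf _ _, hwc _ _, hwc _ _⟩
  let V := H284.RankFix.four p q hpp hqq hpq
  have hVE : V ≤ E := by
    rintro x (rfl | rfl | rfl | rfl)
    · exact E.one_mem
    · exact hpE
    · exact hqE
    · exact E.mul_mem hpE hqE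
  have hcV : Nat.card ↥V = 4 := H284.RankFix.card_four hpp hqq hpq hp1 hq1 hpne
  have key : ∀ g ∈ E, ∃ v ∈ V, g = v ∨ g = w * v := by
    intro g hg
    obtain ⟨h1, h2, h3⟩ := (hE g).1 hg
    rcases (h.mem_iff g).1 h1 with ⟨a, b, rfl⟩ | ⟨a, b, rfl⟩
    · rw [hp, h.f_mul, h.f_mul] at h2
      rw [hq, h.f_mul, h.f_mul] at h3
      rcases h.f_inj _ _ _ _ h2 with ⟨a1, b1⟩ | ⟨a1, b1⟩
      · rcases h.f_inj _ _ _ _ h3 with ⟨a2, b2⟩ | ⟨a2, b2⟩
        · have b3 : b * i = i * b := by rw [← hjl, ← mul_assoc, b1, mul_assoc, b2, mul_assoc]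
          refine ⟨1, V.one_mem, ?_⟩
          rcases c1 a a1 a2 with rfl | rfl <;> rcases c1 b b3 b1 with rfl | rfl
          · left; exact h.f_one
          · right; rw [hw', mul_one]
          · right; rw [mul_one]
          · left; exact h.f_zz
        · have b3 : b * i = zz * (i * b) := by
            rw [← hjl, ← mul_assoc, b1, mul_assoc, b2, zl, mul_assoc]
          refine ⟨p, Or.inr (Or.inl rfl), ?_⟩
          rcases c2 a a1 a2 with rfl | rfl <;> rcases c3 b b3 b1 with rfl | rfl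
          · left; rfl
          · right; rw [hfz]
          · right; rw [← hwf]
          · left; rw [fz]
      · rcases h.f_inj _ _ _ _ h3 with ⟨a2, b2⟩ | ⟨a2, b2⟩
        · have b3 : b * i = zz * (i * b) := by
            rw [← hjl, ← mul_assoc, b1, mul_assoc zz, mul_assoc j b, b2, mul_assoc j l]
          refine ⟨q, Or.inr (Or.inr (Or.inl rfl)), ?_⟩
          rcases c3 a a1 a2 with rfl | rfl <;> rcases c4 b b3 b1 with rfl | rfl
          · left; rfl
          · right; rw [hfz]
          · right; rw [← hwf]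
          · left; rw [fz]
        · have b3 : b * i = i * b := by
            rw [← hjl, ← mul_assoc, b1, mul_assoc zz, mul_assoc j b, b2, zl, ← mul_assoc zz zz, z2, one_mul, mul_assoc]
          refine ⟨p * q, Or.inr (Or.inr (Or.inr rfl)), ?_⟩
          rw [hpq']
          rcases c4 a a1 a2 with rfl | rfl <;> rcases c2 b b3 b1 with rfl | rfl
          · left; rfl
          · right; rw [hfz]
          · right; rw [← hwf]
          · left; rw [fz]
    · exfalso
      rw [hp, mul_assoc, h.s_f, ← mul_assoc, ← mul_assoc, h.f_mul, h.f_mul] at h2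
      rcases h.f_inj _ _ _ _ (mul_right_cancel h2) with ⟨a1, -⟩ | ⟨a1, -⟩
      · exact (hno a).1 a1
      · exact (hno a).2 a1
  have hwV : ∀ v ∈ V, w * v = v * w := by
    rintro v (rfl | rfl | rfl | rfl)
    · rw [mul_one, one_mul]
    · exact hwc _ _
    · exact hwc _ _
    · rw [hpq', hwc]
  have hVc : ∀ a ∈ V, ∀ b ∈ V, a * b = b * a := H284.RankFix.comm_four
  have hV2 : ∀ a ∈ V, a * a = 1 := H284.RankFix.sq_four
  have hwc2 : ∀ a ∈ V, ∀ b ∈ V, w * a * b = b * (w * a) := by
    intro a ha b hb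
    rw [mul_assoc, hVc a ha b hb, ← mul_assoc, hwV b hb, mul_assoc]
  have hEc : ∀ a ∈ E, ∀ b ∈ E, a * b = b * a := by
    intro a ha b hb
    obtain ⟨v, hv, rfl | rfl⟩ := key a ha <;> obtain ⟨u, hu, rfl | rfl⟩ := key b hb
    · exact hVc _ hv _ hu
    · exact (hwc2 u hu _ hv).symm
    · exact hwc2 v hv _ hu
    · have e1 : Commute w u := hwV u hu
      have e2 : Commute w v := hwV v hv
      have e3 : Commute v u := hVc v hv u hu
      exact ((Commute.refl w).mul_right e1).mul_left (e2.symm.mul_right e3)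
  have hE2 : ∀ a ∈ E, a * a = 1 := by
    intro a ha
    obtain ⟨v, hv, rfl | rfl⟩ := key a ha
    · exact hV2 _ hv
    · rw [← mul_assoc, mul_assoc w v w, ← hwV v hv, ← mul_assoc w w v, hww, one_mul, hV2 v hv]
  have hwnV : w ∉ V := by
    rintro (h1 | h1 | h1 | h1)
    · rw [← h.f_one] at h1
      rcases h.f_inj _ _ _ _ h1 with ⟨h2, -⟩ | ⟨-, h2⟩
      · exact zne h2
      · rw [mul_one] at h2
        exact one_ne h2
    · rcases h.f_inj _ _ _ _ h1 with ⟨-, h2⟩ | ⟨-, h2⟩
      · exact (hjne 0).1 h2.symm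
      · have h3 : zz = j := by
          rw [← hzz] at h2
          have h4 := congrArg (fun t => zz * t) h2
          simp only [mul_one, ← mul_assoc, z2, one_mul] at h4
          exact h4
        exact (hjne 0).2 h3.symm
    · rcases h.f_inj _ _ _ _ h1 with ⟨h2, -⟩ | ⟨h2, -⟩
      · exact (hjne 0).2 h2.symm
      · have h3 : (1 : Q (n + 1)) = j := by
          rw [← hzz] at h2
          have h4 := congrArg (fun t => zz * t) h2
          simp only [← mul_assoc, z2, one_mul] at h4
          exact h4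
        exact (hjne 0).1 h3.symm
    · rw [hpq'] at h1
      obtain ⟨t, ht⟩ := hlx
      rcases h.f_inj _ _ _ _ h1 with ⟨h2, -⟩ | ⟨h2, -⟩
      · exact (hjne t).2 (ht ▸ h2.symm)
      · have h3 : (1 : Q (n + 1)) = l := by
          rw [← hzz] at h2
          have h4 := congrArg (fun t => zz * t) h2
          simp only [← mul_assoc, z2, one_mul] at h4
          exact h4
        exact (hjne t).1 (ht ▸ h3.symm)
  have hcE : Nat.card ↥E = 8 := by
    have h1 : Nat.card ↥E ≤ Nat.card (Bool × ↥V) := by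
      refine Nat.card_le_card_of_surjective (fun c : Bool × ↥V => (if c.1 then ⟨w * c.2, E.mul_mem hwE (hVE c.2.2)⟩
        else ⟨c.2, hVE c.2.2⟩ : ↥E)) ?_
      rintro ⟨g, hg⟩
      obtain ⟨v, hv, h1 | h1⟩ := key g hg
      · exact ⟨(false, ⟨v, hv⟩), Subtype.ext h1.symm⟩
      · exact ⟨(true, ⟨v, hv⟩), Subtype.ext h1.symm⟩
    rw [Nat.card_prod, hcV, Nat.card_eq_fintype_card (α := Bool), Fintype.card_bool] at h1
    have h2 : 4 ∣ Nat.card ↥E := by
      rw [← hcV]
      exact card_dvd_of_le hVE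
    have h3 : Nat.card ↥E ≠ 4 := by
      intro h3
      have h4 : V = E := Subgroup.eq_of_le_of_card_ge hVE (by rw [h3, hcV])
      exact hwnV (h4 ▸ hwE)
    have h4 : 0 < Nat.card ↥E := Nat.card_pos
    omega
  refine OddHalf.D6.Harada.rank_of_self P E inf_le_left hEc hE2 hcE ?_
  intro g hg hge
  exact (hE g).2 ⟨hg, hge p hpE, hge q hqE⟩

/-- **`PSp₄(q)`, `q` odd, has sectional 2-rank at most four.** -/
theorem rank_psp {F : Type*} [Field F] [Fintype F] (hF : Odd (Fintype.card F)) : SectionalPRankLE 2 4 (PSp 2 F) := by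
  classical
  have P : Sylow 2 (PSp 2 F) := default
  obtain ⟨k, f, s, h⟩ := SylowSp4.Recog.exists_coord hF (P : Subgroup (PSp 2 F)) P ⟨MulEquiv.refl _⟩
  exact rank_of_coord P h

end Cfsg.Agent.H300.RankSp4
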