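import Cfsg.Agent.Cit.Nil.End
import Cfsg.Agent.Cit.CoreOne
import Cfsg.Agent.S0506
import Cfsg.Agent.S0507
import Cfsg.Agent.S0523
import Cfsg.Agent.S1742
import Cfsg.Agent.S0483
import Cfsg.Agent.S1173
import Cfsg.Agent.TwoFusion.ClosedCommutator
import Cfsg.Agent.H815.RankL3
import Cfsg.Agent.H815.RankG2
import Cfsg.Agent.H284.M12Rank
import Cfsg.Agent.Schreier.MEleven
import Cfsg.Agent.S0387

/-!
# The branch `|Om(S)| = 1` of the classical involution theorem: sectional 2-rank at most 4 (helper300)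

`rank_of_one` : `X` simple, `One Om`, all members of `Om` generated by elements of odd order or all members 2-nilpotent:
sectional 2-rank at most 4.
-/

set_option autoImplicit false
set_option linter.style.haveILetI false

namespace Cfsg.Agent.H300.CitOneRank

open Subgroup Cfsg Cfsg.Agent.Cit Cfsg.Agent.Cit.Nil Cfsg.Agent.Cit.Nil.Ident Cfsg.Agent.Cit.Nil.End

universe u

section ident

variable {X : Type u} [Group X] [Finite X]

theorem ne_two {F : Type*} [Field F] [Fintype F] (h : Odd (Fintype.card F)) : (2 : F) ≠ 0 := by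
  intro h2
  obtain ⟨p, hp, hp2, hc⟩ : ∃ p : ℕ, p.Prime ∧ p ≠ 2 ∧ CharP F p := by
    obtain ⟨p, hp⟩ := CharP.exists F
    have h1 : p.Prime := (CharP.char_is_prime_or_zero F p).resolve_right (CharP.char_ne_zero_of_finite F p)
    refine ⟨p, h1, ?_, hp⟩
    rintro rfl
    have h3 : 2 ∣ Fintype.card F := (CharP.cast_eq_zero_iff F 2 _).1 (Nat.cast_card_eq_zero F)
    rw [Nat.odd_iff] at h
    omega
  have h3 : ((2 : ℕ) : F) = 0 := by exact_mod_cast h2
  have h4 := (CharP.cast_eq_zero_iff F p 2).1 h3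
  exact hp2 ((Nat.prime_dvd_prime_iff_eq hp Nat.prime_two).1 h4)

omit [Finite X] in
theorem tr {K : Type*} [Group K] [Finite K] (e : X ≃* K) (h : SectionalPRankLE 2 4 K) : SectionalPRankLE 2 4 X :=
  GH.Rank.of_injective h e.toMonoidHom e.injective

theorem rank_m11 (h : Spor.IsoM11 X) : SectionalPRankLE 2 4 X := by
  obtain ⟨e⟩ := h
  have e' := e.trans Cfsg.Agent.Schreier.MEleven.equiv.symm
  have := Finite.of_equiv X e'.toEquiv
  refine tr e' (H815.RankG2.rank_of_not_dvd ?_)
  rw [S0387.result _ Cfsg.Agent.Schreier.MEleven.squareDodecad_mem _ Cfsg.Agent.Schreier.MEleven.zero_mem]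
  decide

omit [Finite X] in
theorem rank_a7 (e : X ≃* alternatingGroup (Fin 7)) : SectionalPRankLE 2 4 X := by
  refine tr e (H815.RankG2.rank_of_not_dvd ?_)
  rw [nat_card_alternatingGroup, Nat.card_eq_fintype_card, Fintype.card_fin]
  decide

theorem of_quasi (h : St0507 X) (S : Sylow 2 X) (hS : Cfsg.IsQuasiDihedral (S : Subgroup X)) :
    SectionalPRankLE 2 4 X := by
  rcases h S hS with ⟨F, i, j, hF, ⟨e⟩⟩ | ⟨F, i, j, q, hF, hq, ⟨e⟩⟩ | h1
  · exact tr e (H815.RankL3.rank_psl_three (ne_two (by rw [Nat.odd_iff]; omega)))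
  · exact tr e (H815.RankL3.rank_psu_three hF (by rw [Nat.odd_iff]; omega))
  · exact rank_m11 (TwoGenCore.IsoMEleven.isoM11 h1)

theorem of_wreathed (h : St0523 X) (S : Sylow 2 X) (hS : Cfsg.IsWreathed (S : Subgroup X)) :
    SectionalPRankLE 2 4 X := by
  rcases h S hS with ⟨F, i, j, hF, ⟨e⟩⟩ | ⟨F, i, j, q, hF, hq, ⟨e⟩⟩ | h1
  · exact tr e (H815.RankL3.rank_psl_three (ne_two hF))
  · exact tr e (H815.RankL3.rank_psu_three hF hq)
  · exact rank_m11 (TwoGenCore.IsoMEleven.isoM11 h1)

theorem of_tg2 (h : St1742 X) (S : Sylow 2 X) {m : ℕ} {v : ZMod (2 ^ m) → ZMod (2 ^ m) → X} {r s : X}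
    (hS : SylowG2.Coord.TG2 (S : Subgroup X) m v r s) : SectionalPRankLE 2 4 X := by
  obtain ⟨F, i, j, hF, P, e⟩ := GH.QB.typeG2_of_TG2 hS
  rcases h F hF S P e with ⟨E, i, j, hE, ⟨e⟩⟩ | ⟨K, i, j, r, hr, hK, ⟨e⟩⟩ | h1
  · have : Finite ↥(Cfsg.Lie.chevG2.group E) := Finite.of_equiv X e.toEquiv
    exact tr e (H815.RankG2.rank_g2 hE)
  · have : Finite ↥(Cfsg.Lie.twistedD4 K r) := Finite.of_equiv X e.toEquiv
    exact tr e (H815.RankG2.rank_d4 hr hK)
  · exact H284.M12Rank.rank_m12 h1

theorem of_dihedral (h : St0483 X) (ho : oddCore X = ⊥) (S : Sylow 2 X) {n : ℕ} (hn : 2 ≤ n)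
    (hS : Nonempty ((S : Subgroup X) ≃* DihedralGroup n)) : SectionalPRankLE 2 4 X := by
  have e1 : X ⧸ oddCore X ≃* X := (QuotientGroup.quotientMulEquivOfEq ho).trans QuotientGroup.quotientBot
  rcases h S n hn hS with ⟨F, i, j, hF, h3, ⟨e⟩⟩ | ⟨⟨e⟩⟩
  · have : Finite (Matrix.ProjectiveSpecialLinearGroup (Fin 2) F) := Finite.of_equiv X (e1.symm.trans e).toEquiv
    exact tr (e1.symm.trans e) (H815.RankL3.rank_psl_two (ne_two hF))
  · exact rank_a7 (e1.symm.trans e)

end ident

variable {X : Type u} [Group X] [Finite X]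

theorem h1173 (G : Type u) [Group G] [Finite G] (hO : oddCore G = ⊥) : OneF.H1173 G :=
  fun S T hT => S1173.result hO S T hT

theorem h1171 (G : Type u) [Group G] [Finite G]  : OneF.H1171 G :=
  fun P A B h hA hB => TwoFusion.ClosedCommutator.commutator_le P A B h hA hB

theorem st0507 [IsSimpleGroup X] : St0507 X := fun S hS => S0507.result S hS

theorem st0523 [IsSimpleGroup X] : St0523 X := fun S hS => S0523.result S hS

theorem st1742 [IsSimpleGroup X] : St1742 X := fun _ _ _ hF S P h => S1742.result hF S P h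

theorem st0483 [Group.IsPerfect X] : St0483 X := fun S n hn hS => S0483.result S n hn hS

/-- the 2-nilpotent case: a copy of `Cit.Nil.End.main` -/
theorem nil_rank {G : Type u} [Group G] [Finite G] (hs : IsSimpleGroup ↥(generalizedFittingSubgroup G))
    (hna : ¬ IsMulCommutative ↥(generalizedFittingSubgroup G))
    (h2 : 2 ∣ Nat.card ↥(generalizedFittingSubgroup G))
    {Om : Set (Subgroup G)} (h : Cit.One Om) (hne : Om.Nonempty) (hn : NilOm Om) :
    SectionalPRankLE 2 4 ↥(generalizedFittingSubgroup G) := by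
  have hX : (generalizedFittingSubgroup G).Normal := Lib.GenFitting.genFitting_normal (G := G)
  have hC := centralizer_fstar hs hna
  have hN : ∀ N : Subgroup G, N.Normal → N ≠ ⊥ → centralizer (N : Set G) = ⊥ := by
    intro N hN hb
    rw [eq_bot_iff, ← hC]
    exact centralizer_le (fstar_le hs hna hN hb)
  have hO : oddCore G = ⊥ := by
    by_contra hb
    have h3 := fstar_le hs hna (Lib.Cores.pPrimeCore_normal 2 (G := G)) hb
    have h4 := h2.trans (card_dvd_of_le h3)
    have h5 := Lib.Cores.pPrimeCore_coprime (G := G) 2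
    have h6 := Nat.dvd_gcd h4 (dvd_refl 2)
    rw [h5] at h6
    omega
  have hF : Ker.FOne Om := fun b hb hw =>
    OneF.eq_one_of_WW_nil h (l1_nil h hn) (h1173 G hO) (h1171 G) hO hN hb hw
  have hZX : ∀ K ∈ Om, zz K ∈ generalizedFittingSubgroup G := fun K hK => ZMem.zz_mem_simple h hX hs h2 hC hK
  have hP : Ker.HPair Om := ZMem.hPair h hX (ZMem.hodd_simple hs h2) hC hne
  have hperf : ⁅generalizedFittingSubgroup G, generalizedFittingSubgroup G⁆ = generalizedFittingSubgroup G := by
    rw [← map_subtype_commutator, commutator_eq_top hs hna, ← MonoidHom.range_eq_map, range_subtype]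
  by_cases hW : Ker.HW Om
  · obtain ⟨T, hT, hout⟩ := WWorld.main h hF hW hX hperf hZX
    obtain ⟨S, hS⟩ := NoHomo.exists_sylow hT
    rcases hout with h1 | ⟨m, v, r, s, h1⟩ | h1
    · refine of_wreathed st0523 S ?_
      rw [hS]
      exact isWreathed_congr (subgroupOfEquivOfLe hT.1).symm h1
    · refine of_tg2 st1742 S (m := m) (v := fun i j => ⟨v i j, hT.1 (h1.v_mem i j)⟩) (r := ⟨r, hT.1 h1.r_mem⟩)
        (s := ⟨s, hT.1 h1.s_mem⟩) ?_
      rw [hS]
      exact tg2_subgroupOf hT.1 h1
    · exact absurd h1 (NoHomo.not_homo (fun hna S hS => S0506.result hna S hS) hs hna hT)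
  · rcases SdEnd.main h hF hP hW hX hZX (index_ne_two hs hna) with ⟨T, hT, h1⟩ | ⟨T, n, c, t, v, hD⟩
    · obtain ⟨S, hS⟩ := NoHomo.exists_sylow hT
      refine of_quasi st0507 S ?_
      rw [hS]
      exact isQuasiDihedral_congr (subgroupOfEquivOfLe hT.1).symm h1
    · obtain ⟨S, hS⟩ := NoHomo.exists_sylow hD.syl
      obtain ⟨f⟩ := hD.equiv
      haveI : Group.IsPerfect ↥(generalizedFittingSubgroup G) := ⟨commutator_eq_top hs hna⟩
      refine of_dihedral st0483 (oddCore_eq_bot hs h2) S (n := 2 ^ (n + 2)) (by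
          rw [pow_succ]
          have := Nat.one_le_two_pow (n := n + 1)
          omega) ⟨by
          rw [hS]
          exact (subgroupOfEquivOfLe hD.syl.1).trans f⟩

/-- **The branch `|Om(S)| = 1`: sectional 2-rank at most 4** -/
theorem rank_of_one [IsSimpleGroup X] {Om : Set (Subgroup X)} (h : Cit.One Om) (hne : Om.Nonempty)
    (hT : (∀ K ∈ Om, Cit.TyTwo K) ∨ Cit.Nil.NilOm Om) : SectionalPRankLE 2 4 X := by
  obtain ⟨K, hK⟩ := id hne
  have hna := OneLeafBase.not_isMulCommutative h.hyp hK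
  have h2 := CoreOne.two_dvd_card h.hyp hK
  rcases hT with hT | hT
  · obtain ⟨S⟩ : Nonempty (Sylow 2 X) := inferInstance
    rcases CoreOne.sylow_type h hne hT (h1173 X (CoreOne.oddCore_eq_bot h2)) S with h1 | h1 | ⟨m, v, r, s, h1⟩
    · exact of_quasi st0507 S h1
    · exact of_wreathed st0523 S h1
    · exact of_tg2 st1742 S h1
  · have hFt : generalizedFittingSubgroup X = ⊤ := by
      rcases (Lib.GenFitting.genFitting_normal (G := X)).eq_bot_or_eq_top with h3 | h3
      · exfalso
        have h4 := Lib.GenFitting.centralizer_genFitting_le (G := X)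
        rw [h3] at h4
        have h5 : (⊤ : Subgroup X) ≤ ⊥ := by
          refine le_trans ?_ h4
          intro x _
          rw [mem_centralizer_iff]
          intro y hy
          rw [SetLike.mem_coe, mem_bot] at hy
          rw [hy, one_mul, mul_one]
        exact top_ne_bot (le_bot_iff.1 h5)
      · exact h3
    have e : ↥(generalizedFittingSubgroup X) ≃* X := (MulEquiv.subgroupCongr hFt).trans topEquiv
    have hs : IsSimpleGroup ↥(generalizedFittingSubgroup X) := e.isSimpleGroup
    refine GH.Rank.of_injective (nil_rank hs ?_ ?_ h hne hT) e.symm.toMonoidHom e.symm.injective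
    · intro hc
      apply hna
      refine ⟨⟨fun a b => ?_⟩⟩
      have := hc.is_comm.comm (e.symm a) (e.symm b)
      rw [← map_mul, ← map_mul] at this
      exact e.symm.injective this
    · rw [Nat.card_congr e.toEquiv]
      exact h2

end Cfsg.Agent.H300.CitOneRank
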