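import Cfsg.Agent.H300.Table
import Cfsg.Agent.H300.D8GW
import Cfsg.Agent.H295.StdRed
import Cfsg.Agent.S1347

/-!
# S3160: standard subgroups with Sylow 2-subgroups `D₈` (helper300)
-/

set_option autoImplicit false

namespace Cfsg.Agent.H300.Final

open Subgroup Cfsg Cfsg.Agent.H300.D8Base Cfsg.Agent.SignalizersComponents
open Cfsg.Agent.SignalizersComponents.Components

universe u

section six

variable {G : Type u} [Group G] [Finite G] {X A : Subgroup G} [X.Normal] [IsSimpleGroup ↥X]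

theorem out_psl {F : Type} [Field F] [Fintype F] (hF : Fintype.card F = 2) :
    Nat.card (Cfsg.Out (Matrix.ProjectiveSpecialLinearGroup (Fin 5) F)) = 2 := by
  have : Fact (Nat.Prime 2) := ⟨Nat.prime_two⟩
  obtain ⟨φ, hφ, -, hk⟩ := Cfsg.Agent.S2601.result (p := 2) (f := 1) (n := 5) le_rfl (hF.trans (by norm_num)) (by norm_num)
  have h1 := φ.ker.card_mul_index
  rw [hk, index_ker, (MonoidHom.range_eq_top.2 hφ), card_top, Nat.card_congr Multiplicative.toAdd,
    Nat.card_prod, Nat.card_zmod, Nat.card_zmod] at h1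
  rw [← h1]
  norm_num

theorem out_psu {F : Type} [Field F] [Fintype F] (hF : Fintype.card F = 4) :
    Nat.card (Cfsg.Out (PSU 5 F 2)) = 2 := by
  have : Fact (Nat.Prime 2) := ⟨Nat.prime_two⟩
  obtain ⟨φ, hφ, -, hk⟩ := Cfsg.Agent.S2603.result (p := 2) (f := 1) (q := 2) (n := 5) le_rfl (by norm_num)
    (hF.trans (by norm_num)) (by norm_num) (by norm_num)
  have h1 := φ.ker.card_mul_index
  rw [hk, index_ker, (MonoidHom.range_eq_top.2 hφ), card_top, Nat.card_congr Multiplicative.toAdd, Nat.card_zmod] at h1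
  rw [← h1]
  norm_num

/-- `Aut(X)` is twice as large as `X` -/
theorem two_aut (hna : ¬ IsMulCommutative ↥X) (hX : IsChevSimple 2 ↥X) (hc : centralizer (X : Set G) = ⊥)
    (hA : IsStandardSubgroup A) (hAX : A ≤ X) {K : Type} [Group K] (e : ↥X ≃* K)
    (hout : Nat.card (Cfsg.Out K) = 2) : Nonempty (G ≃* MulAut K) ∧ commutator G = X := by
  have hfin : Finite K := Finite.of_equiv _ e.toEquiv
  have hcX : center ↥X = ⊥ := CpAut.center_eq_bot_of_simple hna
  have hcK : center K = ⊥ := by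
    rw [← SignalizersComponents.LayerBasic.map_center_equiv e, hcX]
    exact Subgroup.map_bot _
  obtain ⟨⟨f⟩, h2⟩ := H295.Fin.equiv_aut (X := X) inferInstance inferInstance hna hc
    (Table.card_aut_congr e (Table.card_aut hcK hout)) (Table.ne_top hna hX hc hA hAX)
  exact ⟨⟨f.trans (MulAut.congr e)⟩, h2⟩

/-- the six alternatives of S3160 for `A ≅ A₆`, from `D8Row.Concl` -/
theorem of_concl (hna : ¬ IsMulCommutative ↥X) (hc : centralizer (X : Set G) = ⊥) (hA : IsStandardSubgroup A)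
    (hAX : A ≤ X) (h : D8Row.Concl ↥X ↥A) :
    SectionalPRankLE 2 4 ↥X ∨ (Nonempty (↥A ≃* ↥(alternatingGroup (Fin 6))) ∧ X = commutator G ∧
      ((∃ (F : Type) (_ : Field F) (_ : Fintype F), Fintype.card F = 4 ∧
          ((Nonempty (↥(commutator G) ≃* PSp 2 F) ∧ centralizer ((commutator G : Subgroup G) : Set G) = ⊥) ∨
            Nonempty (G ≃* MulAut (PSU 5 F 2)))) ∨
        (∃ (F : Type) (_ : Field F) (_ : Fintype F), Fintype.card F = 2 ∧
          Nonempty (G ≃* MulAut (Matrix.ProjectiveSpecialLinearGroup (Fin 5) F))))) := by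
  rcases h with h | ⟨hA6, h⟩
  · exact Or.inl h
  right
  refine ⟨hA6, ?_⟩
  have charTwo : ∀ (F : Type) [Field F] [Fintype F] (k : ℕ), Fintype.card F = 2 ^ (k + 1) → CharP F 2 := by
    intro F _ _ k hF
    have : Fact (Nat.Prime 2) := ⟨Nat.prime_two⟩
    exact charP_of_card_eq_prime_pow hF
  rcases h with ⟨F, i1, i2, hF, h⟩ | ⟨F, i1, i2, hF, h⟩
  · have hch := charTwo F 1 (hF.trans (by norm_num))
    rcases h with ⟨⟨e⟩⟩ | ⟨⟨e⟩⟩
    · obtain ⟨hcyc, -⟩ := H183.OutSp4.out_psp4 (F := F) (f := 2) (by norm_num) (hF.trans (by norm_num))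
      have hO : SectRankFour.OutAb.OutComm ↥X := (Table.outComm_of_cyclic hcyc).congr e.symm
      have h1 := Table.commutator_eq hna hc hO
      refine ⟨h1.symm, Or.inl ⟨F, i1, i2, hF, Or.inl ⟨?_, ?_⟩⟩⟩
      · rw [h1]; exact ⟨e⟩
      · rw [h1]; exact hc
    · obtain ⟨h1, h2⟩ := two_aut hna (Or.inl (Or.inr (Or.inr (Or.inl ⟨F, i1, i2, hch, 5, 2, by rw [hF]; norm_num,
        by norm_num, by norm_num, ⟨e⟩⟩)))) hc hA hAX e (out_psu hF)
      exact ⟨h2.symm, Or.inl ⟨F, i1, i2, hF, Or.inr h1⟩⟩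
  · have hch := charTwo F 0 (hF.trans (by norm_num))
    obtain ⟨e⟩ := h
    obtain ⟨h1, h2⟩ := two_aut hna (Or.inl (Or.inl ⟨F, i1, i2, hch, 5, by norm_num, by norm_num, ⟨e⟩⟩)) hc hA hAX e
      (out_psl hF)
    exact ⟨h2.symm, Or.inr ⟨F, i1, i2, hF, h1⟩⟩

end six

variable {G : Type u} [Group G] [Finite G]

/-- the trichotomy -/
theorem tri (hO : oddCore G = ⊥) {A : Subgroup G} (hA : IsStandardSubgroup A) (hZ : Odd (Nat.card ↥(center ↥A))) :
    (A.Normal ∧ center ↥A = ⊥) ∨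
      (normalClosure (A : Set G) = generalizedFittingSubgroup G ∧
        Nonempty (↥(normalClosure (A : Set G)) ≃* ↥A × ↥A) ∧ center ↥A = ⊥) ∨
      (normalClosure (A : Set G) = generalizedFittingSubgroup G ∧ IsSimpleGroup ↥(normalClosure (A : Set G)) ∧
        ¬ IsMulCommutative ↥(normalClosure (A : Set G)) ∧
        centralizer (normalClosure (A : Set G) : Set G) = ⊥ ∧ A ≤ normalClosure (A : Set G)) := by
  by_cases hn : A.Normal
  · exact Or.inl ⟨hn, H295.StdRed.center_eq_bot_of_normal hO hn hZ⟩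
  right
  obtain ⟨t, htA, ht⟩ := H295.StdRed.exists_inv hA
  have h2 : pCore 2 G = ⊥ := by
    by_contra h
    exact hn (StandardTrichotomy.normal_of_pCore_ne_bot hA ht htA h)
  have hF : fittingSubgroup G = ⊥ := by
    have := CompOrbit.fittingSubgroup_le_pCore (p := 2) hO
    rw [h2] at this
    exact le_bot_iff.mp this
  have h3 : generalizedFittingSubgroup G = layer G := by
    unfold generalizedFittingSubgroup
    rw [hF, sup_bot_eq]
  have hC := StandardTrichotomy.centralizer_layer_eq_bot hO h2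
  have hEn : (layer G).Normal := layer_normal G
  have hA0 : A ≠ ⊥ := by
    intro h7
    have := quasisimple_nontrivial hA.1
    rw [h7] at this
    exact not_nontrivial _ this
  rcases S1347.result A hA hO t ht htA with h | ⟨Y, hs, hna, ⟨e⟩, hcomm, hinf, hsup, -⟩ | ⟨hAE, hs, hna⟩
  · exact absurd h hn
  · left
    have hAE : A ≤ layer G := S1347.le_layer hA hO t ht htA hC
    obtain ⟨h4, ⟨f⟩⟩ := H295.Fin.swap_case (A := A) (Y := Y) (E := layer G) (t := t) hEn hs (by
      by_contra hcon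
      push Not at hcon
      exact quasisimple_not_isMulCommutative hA.1 ⟨⟨fun a b => Subtype.ext (hcon a a.2 b b.2)⟩⟩) htA hAE hcomm hinf hsup
    refine ⟨by rw [h4, h3], ⟨f.trans (MulEquiv.prodCongr e e)⟩, ?_⟩
    rw [← SignalizersComponents.LayerBasic.map_center_equiv e,
      H295.StdRed.center_eq_bot_of_simple hs hna]
    exact Subgroup.map_bot _
  · right
    have h4 : normalClosure (A : Set G) = layer G := H295.Fin.normalClosure_eq hEn hs hAE hA0
    rw [h4, h3]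
    exact ⟨rfl, hs, hna, hC, hAE⟩

omit [Finite G] in
/-- A9 -/
theorem rank_of_perm (e : G ≃* Equiv.Perm (Fin 9)) : SectionalPRankLE 2 4 ↥(commutator G) := by
  have h1 : ∀ x ∈ commutator G, e x ∈ alternatingGroup (Fin 9) := by
    intro x hx
    have h2 : commutator G ≤ ((Equiv.Perm.sign : Equiv.Perm (Fin 9) →* ℤˣ).comp e.toMonoidHom).ker :=
      Abelianization.commutator_subset_ker _
    exact Equiv.Perm.mem_alternatingGroup.2 (MonoidHom.mem_ker.1 (h2 hx))
  refine GH.Rank.of_injective H284.AltRow.rank_nine ((e.toMonoidHom.comp (commutator G).subtype).codRestrict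
    (alternatingGroup (Fin 9)) fun x => h1 x x.2) ?_
  intro a b h
  exact Subtype.ext (e.injective (congrArg Subtype.val h))

/-- **S3160** -/
theorem main (hO : oddCore G = ⊥) (A : Subgroup G) (hA : IsStandardSubgroup A)
    (hZ : Odd (Nat.card ↥(center ↥A))) (hD : D8 ↥A)
    (hK : IsSimpleGroup ↥(normalClosure (A : Set G)) → Cfsg.IsKnownSimple' ↥(normalClosure (A : Set G)))
    (hR : IsSimpleGroup ↥(normalClosure (A : Set G)) → centralizer (normalClosure (A : Set G) : Set G) = ⊥ →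
      ∀ p, p.Prime → p ≠ 2 → IsLieTypeChar p ↥(normalClosure (A : Set G)) → PRankLE 2 1 ↥(centralizer (A : Set G)))
    (h7 : Nonempty ((↥A ⧸ center ↥A) ≃* ↥(alternatingGroup (Fin 7))) → (A.Normal ∧ center ↥A = ⊥) ∨
      (Nonempty (↥(normalClosure (A : Set G)) ≃* ↥(alternatingGroup (Fin 11))) ∧ center ↥A = ⊥) ∨
      (Nonempty (↥(normalClosure (A : Set G)) ≃* ↥(alternatingGroup (Fin 7)) × ↥(alternatingGroup (Fin 7))) ∧
        center ↥A = ⊥) ∨
      (Nonempty (G ≃* Equiv.Perm (Fin 9)) ∧ normalClosure (A : Set G) = commutator G ∧ center ↥A = ⊥) ∨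
      (Nonempty (G ≃* MulAut Cfsg.Spor.He) ∧ normalClosure (A : Set G) = commutator G ∧
        Nat.card ↥(center ↥A) = 3)) :
    (A.Normal ∧ center ↥A = ⊥) ∨
      (normalClosure (A : Set G) = generalizedFittingSubgroup G ∧
        Nonempty (↥(normalClosure (A : Set G)) ≃* ↥A × ↥A) ∧ center ↥A = ⊥) ∨
      (∃ n : ℕ, (n = 6 ∨ n = 7) ∧ Nonempty (↥A ≃* ↥(alternatingGroup (Fin n))) ∧
        Nonempty (↥(normalClosure (A : Set G)) ≃* ↥(alternatingGroup (Fin (n + 4))))) ∨
      (normalClosure (A : Set G) = generalizedFittingSubgroup G ∧ IsSimpleGroup ↥(normalClosure (A : Set G)) ∧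
        ¬ IsMulCommutative ↥(normalClosure (A : Set G)) ∧ SectionalPRankLE 2 4 ↥(normalClosure (A : Set G))) ∨
      (Nat.card ↥(center ↥A) = 3 ∧ Nonempty ((↥A ⧸ center ↥A) ≃* ↥(alternatingGroup (Fin 7))) ∧
        normalClosure (A : Set G) = commutator G ∧ Nonempty (G ≃* MulAut Cfsg.Spor.He)) ∨
      (Nonempty (↥A ≃* ↥(alternatingGroup (Fin 6))) ∧ normalClosure (A : Set G) = commutator G ∧
        ((∃ (F : Type) (_ : Field F) (_ : Fintype F), Fintype.card F = 4 ∧
            ((Nonempty (↥(commutator G) ≃* Cfsg.PSp 2 F) ∧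
              centralizer ((commutator G : Subgroup G) : Set G) = ⊥) ∨ Nonempty (G ≃* MulAut (Cfsg.PSU 5 F 2)))) ∨
          (∃ (F : Type) (_ : Field F) (_ : Fintype F), Fintype.card F = 2 ∧
            Nonempty (G ≃* MulAut (Matrix.ProjectiveSpecialLinearGroup (Fin 5) F))))) ∨
      (Nonempty (↥A ≃* ↥(alternatingGroup (Fin 6))) ∧
        normalClosure (A : Set G) = generalizedFittingSubgroup G ∧
        Cfsg.Spor.IsoHS ↥(normalClosure (A : Set G))) := by
  rcases tri hO hA hZ with h | h | ⟨h1, h2, h3, h4, h5⟩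
  · exact Or.inl h
  · exact Or.inr (Or.inl h)
  rcases D8GW.gw hA.1 hZ hD with ⟨F, i1, i2, hF, hF3, ⟨e⟩⟩ | ⟨⟨e⟩⟩
  · rcases Table.table h3 h4 hA h5 hZ hD hF hF3 e (hK h2) (hR h2 h4) with h | h | h
    · exact Or.inr (Or.inr (Or.inl h))
    · rcases of_concl h3 h4 hA h5 h with h | h
      · exact Or.inr (Or.inr (Or.inr (Or.inl ⟨h1, h2, h3, h⟩)))
      · exact Or.inr (Or.inr (Or.inr (Or.inr (Or.inr (Or.inl h)))))
    · exact Or.inr (Or.inr (Or.inr (Or.inr (Or.inr (Or.inr ⟨h.1, h1, h.2⟩)))))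
  · have hA7 : center ↥A = ⊥ → Nonempty (↥A ≃* ↥(alternatingGroup (Fin 7))) := fun h =>
      ⟨((QuotientGroup.quotientMulEquivOfEq h).trans QuotientGroup.quotientBot).symm.trans e⟩
    rcases h7 ⟨e⟩ with h | ⟨⟨f⟩, h⟩ | ⟨⟨f⟩, h⟩ | ⟨⟨f⟩, h, -⟩ | ⟨h, h6, h7⟩
    · exact Or.inl h
    · exact Or.inr (Or.inr (Or.inl ⟨7, Or.inr rfl, hA7 h, ⟨f⟩⟩))
    · obtain ⟨g⟩ := hA7 h
      exact Or.inr (Or.inl ⟨h1, ⟨f.trans (MulEquiv.prodCongr g.symm g.symm)⟩, h⟩)
    · refine Or.inr (Or.inr (Or.inr (Or.inl ⟨h1, h2, h3, ?_⟩)))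
      rw [h]
      exact rank_of_perm f
    · exact Or.inr (Or.inr (Or.inr (Or.inr (Or.inl ⟨h7, ⟨e⟩, h6, h⟩))))

end Cfsg.Agent.H300.Final
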