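import Cfsg.Agent.H794.ImcTools
import Cfsg.Agent.S4499

/-!
# `IMC p G` from a character of degree divisible by `|G|_p / p` (helper300)

`imc_of_near` : `p ^ 2 ∣ |G|` and `p ^ (a - 1) ∣ χ(1)`, `p ^ a` the `p`-part of `|G|` (S4499: all degrees in the block
of `χ` are divisible by `p ^ (a - 1)`).
-/

set_option autoImplicit false

open Cfsg

namespace Cfsg.Agent.H300.IMCNear

open Cfsg.Agent.H625.SylConst Cfsg.Agent.Blocks.Basic

universe u

variable {G : Type u} [Group G] [Finite G] {p : ℕ} [hp : Fact p.Prime]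

/-- an irreducible character of degree divisible by `|G|_p / p`, `p ^ 2 ∣ |G|` -/
theorem imc_of_near (h2 : p ^ 2 ∣ Nat.card G) (χ : IrrCharacter G)
    (h : p ^ ((Nat.card G).factorization p - 1) ∣ charDegree (χ : G → ℂ)) : IMC p G := by
  obtain ⟨M, hM⟩ := Blocks.ExistsModular.exists_isPModular hp.out
  have : M.IsPrime := hM.2.1.isPrime
  have h3 : 2 ≤ (Nat.card G).factorization p :=
    (hp.out.pow_dvd_iff_le_factorization Nat.card_pos.ne').1 h2
  refine H794.Imc.imc_of_block hM (B := blockOf M (χ : G → ℂ)) ⟨χ, rfl⟩ fun ψ hψ => ?_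
  exact (dvd_pow_self p (by omega)).trans
    (S4499.result p M hM ((dvd_pow_self p two_ne_zero).trans h2) _ ⟨χ, rfl⟩ χ (mem_blockOf_self χ) h ψ hψ)

/-- the same with explicit numbers: `|G| = p ^ (a + 1) * m`, `p ∤ m`, `1 ≤ a`, `p ^ a ∣ χ(1)`. -/
theorem imc_of_near' {a m : ℕ} (hG : Nat.card G = p ^ (a + 1) * m) (hm : ¬ p ∣ m) (ha : 1 ≤ a) (χ : IrrCharacter G)
    (h : p ^ a ∣ charDegree (χ : G → ℂ)) : IMC p G := by
  have hm0 : m ≠ 0 := by
    rintro rfl
    exact hm (dvd_zero p)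
  have h1 : (Nat.card G).factorization p = a + 1 := by
    rw [hG, Nat.factorization_mul (pow_ne_zero _ hp.out.ne_zero) hm0, Finsupp.add_apply,
      Nat.factorization_eq_zero_of_not_dvd hm, add_zero, hp.out.factorization_pow, Finsupp.single_eq_same]
  refine imc_of_near ?_ χ (by rwa [h1, Nat.add_sub_cancel])
  rw [hG]
  exact (pow_dvd_pow p (by omega)).mul_right m

end Cfsg.Agent.H300.IMCNear
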