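import Cfsg.Agent.H300.IMCLyTwo
import Cfsg.Agent.H300.IMCNear
import Cfsg.Agent.H94.IMCPerm
import Cfsg.Agent.H314.IMLy
import Cfsg.Agent.H582.Ly.Row

/-!
# The row of the Lyons group in S4526 (helper300)

* `p = 2` : a 2-block with defect group a Sylow 2-subgroup of `McL` (`IMCLyTwo`);
* `p = 3` : the degree `3028266 = 2·3⁶·31·67`;
* `p = 5` : the constituent of degree `1534500` of the permutation character of degree `8835156`;
* the other primes divide the order exactly once.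
-/

set_option autoImplicit false

namespace Cfsg.Agent.H300.IMCLy

open Cfsg Cfsg.Agent.Ly Cfsg.Agent.H593 Cfsg.Agent.Ly.CoverData Cfsg.Agent.Ly.Setup Cfsg.Agent.Ly.Cent
  Cfsg.Agent.H314.OrbCount Cfsg.Agent.H314.OrbDeg Cfsg.Agent.H314.LyOrb Cfsg.Agent.H625.SylConst

universe u

/-- the five constituents of the permutation character -/
theorem exists_perm_ly [Fintype Cfsg.Spor.Ly] : ∃ χ : Fin 5 → IrrCharacter Cfsg.Spor.Ly, Function.Injective χ ∧
    (∀ g, IMFrame.perm Cfsg.Spor.Ly (Cfsg.Spor.Ly ⧸ psi.range) g = ∑ i, (χ i : Cfsg.Spor.Ly → ℂ) g) ∧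
    ∀ l, charDegree (χ l : Cfsg.Spor.Ly → ℂ) = deg l := by
  classical
  have := Fintype.ofFinite (Cfsg.Spor.Ly ⧸ psi.range)
  obtain ⟨χ, h1, h0, h2⟩ := exists_degrees_of_eigen sub_ly 1 0
    (by show (QuotientGroup.mk (Setup.w 0) : Cfsg.Spor.Ly ⧸ psi.range) = _; rw [w_zero]) M
    (fun i j => by rw [← cnt_M i j, ← cnt_symm sub_ly 1 i j]) θ
    (by intro i j h; fin_cases i <;> fin_cases j <;> first | rfl | (norm_num [θ] at h)) V
    (by intro l; fin_cases l <;> rfl)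
    (by decide +kernel)
  refine ⟨χ, h1, h0, fun l => ?_⟩
  have h3 := h2 l
  rw [show Nat.card (Cfsg.Spor.Ly ⧸ psi.range) = 8835156 from index_range, Fin.sum_univ_five] at h3
  have h4 : (charDegree (χ l : Cfsg.Spor.Ly → ℂ) : ℚ) = deg l := by
    have h5 : ∀ l : Fin 5, (dd 0 : ℚ) * V l 0 ^ 2 + dd 1 * V l 1 ^ 2 + dd 2 * V l 2 ^ 2 + dd 3 * V l 3 ^ 2 +
        dd 4 * V l 4 ^ 2 = 8835156 / deg l := by decide +kernel
    have h6 : (deg l : ℚ) ≠ 0 := by fin_cases l <;> norm_num [deg]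
    rw [h5 l] at h3
    field_simp at h3
    push_cast at h3
    linarith
  exact_mod_cast h4

/-- `p = 5` -/
theorem imc_five [Fact (Nat.Prime 5)] : IMC 5 Cfsg.Spor.Ly := by
  classical
  have := Fintype.ofFinite Cfsg.Spor.Ly
  obtain ⟨χ, h1, h0, h2⟩ := exists_perm_ly
  refine H94.IMCPerm.imc_of_perm (X := Cfsg.Spor.Ly ⧸ psi.range) ?_ (χ 2) ?_ ?_
  · rw [show Nat.card (Cfsg.Spor.Ly ⧸ psi.range) = 8835156 from index_range]
    norm_num
  · rw [h2]
    decide
  · have e : (fun g : Cfsg.Spor.Ly => (H852.IMPerm.fx (Cfsg.Spor.Ly ⧸ psi.range) g : ℂ)) =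
        ∑ i, (χ i : Cfsg.Spor.Ly → ℂ) := by
      funext g
      rw [Finset.sum_apply]
      exact h0 g
    rw [e, Fin.sum_univ_five]
    simp only [Characters.Core.classInner_add_left]
    have hne : ∀ i : Fin 5, i ≠ 2 → classInner (χ i : Cfsg.Spor.Ly → ℂ) (χ 2 : Cfsg.Spor.Ly → ℂ) = 0 := by
      intro i hi
      exact Characters.Core.classInner_irr_ne (χ i).2 (χ 2).2 (fun h => hi (h1 (Subtype.ext h)))
    rw [hne 0 (by decide), hne 1 (by decide), hne 3 (by decide), hne 4 (by decide),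
      Characters.Core.classInner_irr_self (χ 2).2]
    norm_num

/-- `p = 3` -/
theorem imc_three [Fact (Nat.Prime 3)] : IMC 3 Cfsg.Spor.Ly := by
  obtain ⟨χ, -, h2⟩ := exists_deg_ly
  refine IMCNear.imc_of_near' (a := 6) (m := 23669492000000) ?_ (by norm_num) (by norm_num) (χ 3) ?_
  · rw [Cfsg.Agent.Ly.Setup.card_ly]; norm_num
  · rw [h2]
    decide

/-- `p = 2` -/
theorem imc_two [Fact (Nat.Prime 2)] : IMC 2 Cfsg.Spor.Ly := by
  obtain ⟨x₀, h₀⟩ := H582.Ly.exists_tdata_ly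
  obtain ⟨L⟩ := TypeM.FactsLy.exists_mt_ly
  exact IMCLyTwo.imc_two L Cfsg.Agent.Ly.Setup.card_ly h₀.ord h₀.mcl.card

/-- the model, all primes -/
theorem imc_ly' {p : ℕ} [hp : Fact p.Prime] (hd : p ∣ Nat.card Cfsg.Spor.Ly) : IMC p Cfsg.Spor.Ly := by
  have hp1 := hp.out
  have hd' := hd
  rw [Cfsg.Agent.Ly.Setup.card_ly, show 51765179004000000 = 2 ^ 8 * 3 ^ 7 * 5 ^ 6 * 7 * 11 * 31 * 37 * 67 by norm_num,
    hp1.dvd_mul, hp1.dvd_mul, hp1.dvd_mul, hp1.dvd_mul, hp1.dvd_mul, hp1.dvd_mul, hp1.dvd_mul] at hd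
  have key : ∀ q : ℕ, q.Prime → p ∣ q → ¬ q ^ 2 ∣ 51765179004000000 → IMC p Cfsg.Spor.Ly := by
    intro q hq hpq hq2
    have := (Nat.prime_dvd_prime_iff_eq hp1 hq).1 hpq
    subst this
    exact H794.Imc.imc_of_exact hd' (by rw [Cfsg.Agent.Ly.Setup.card_ly]; exact hq2) (H314.IMLy.im_ly' hp1 hd')
  rcases hd with ((((((h | h) | h) | h) | h) | h) | h) | h
  · have := (Nat.prime_dvd_prime_iff_eq hp1 Nat.prime_two).1 (hp1.dvd_of_dvd_pow h)
    subst this
    exact imc_two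
  · have := (Nat.prime_dvd_prime_iff_eq hp1 Nat.prime_three).1 (hp1.dvd_of_dvd_pow h)
    subst this
    exact imc_three
  · have := (Nat.prime_dvd_prime_iff_eq hp1 Nat.prime_five).1 (hp1.dvd_of_dvd_pow h)
    subst this
    exact imc_five
  · exact key 7 (by norm_num) h (by norm_num)
  · exact key 11 (by norm_num) h (by norm_num)
  · exact key 31 (by norm_num) h (by norm_num)
  · exact key 37 (by norm_num) h (by norm_num)
  · exact key 67 (by norm_num) h (by norm_num)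

/-- **the row of the Lyons group** -/
theorem imc_ly {S : Type u} [Group S] [Finite S] (h : Cfsg.Spor.IsoLy S) {p : ℕ} [hp : Fact p.Prime]
    (hd : p ∣ Nat.card S) : IMC p S := by
  obtain ⟨e⟩ := h
  have h1 : p ∣ Nat.card Cfsg.Spor.Ly := by rwa [← Nat.card_congr e.toEquiv]
  exact (imc_ly' h1).of_surjective e.toMonoidHom e.surjective

end Cfsg.Agent.H300.IMCLy
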