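import Cfsg.Agent.H582.Ly.Three
import Cfsg.Agent.H794.ImcTools

/-!
# `IMC 2` for the Lyons group (helper300)

The class of the elements with centralizer `3.McL` detects a 2-block with defect group a Sylow 2-subgroup of `McL`.
-/

set_option autoImplicit false

namespace Cfsg.Agent.H300.IMCLyTwo

open Subgroup Equiv Cfsg Cfsg.Agent.TypeM.Two Cfsg.Agent.SporRec.TwoAn Cfsg.Agent.CpAutLy
open Cfsg.Agent.TypeM.McLFromLy Cfsg.Agent.CpAutLy.Types

/-! ### Permutations -/

section perm

variable {α : Type*} [Fintype α] [DecidableEq α]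

/-- a 2-element commuting with a 3-cycle fixes the points of the 3-cycle -/
theorem fix_of_comm {σ e : Perm α} (hσ : σ.cycleType = {3}) (he : e * σ = σ * e) {k : ℕ} (hk : e ^ 2 ^ k = 1) {x : α}
    (hx : x ∈ σ.support) : e x = x := by
  have hc : σ.IsCycle := (Perm.card_cycleType_eq_one.1 (by rw [hσ]; rfl))
  have ho : orderOf σ = 3 := by rw [← Perm.lcm_cycleType, hσ]; decide
  have hcomm : Commute e σ := he
  have hex : e x ∈ σ.support := by
    rw [Perm.mem_support] at hx ⊢
    intro h
    apply hx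
    apply e.injective
    rw [← Perm.mul_apply, he, Perm.mul_apply, h]
  obtain ⟨i, hi⟩ := hc.exists_pow_eq (Perm.mem_support.1 hx) (Perm.mem_support.1 hex)
  have hn : ∀ n : ℕ, (e ^ n) x = (σ ^ (i * n)) x := by
    intro n
    induction n with
    | zero => simp
    | succ n ih =>
      have h1 : Commute e (σ ^ (i * n)) := hcomm.pow_right _
      rw [pow_succ', Perm.mul_apply, ih, ← Perm.mul_apply, h1.eq, Perm.mul_apply, ← hi, ← Perm.mul_apply, ← pow_add,
        Nat.mul_succ]
  have h2 := hn (2 ^ k)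
  rw [hk, Perm.one_apply] at h2
  have h3 : σ ^ (i * 2 ^ k) = 1 := by
    rw [hc.pow_eq_one_iff]
    exact ⟨x, Perm.mem_support.1 hx, h2.symm⟩
  have h4 := orderOf_dvd_of_pow_eq_one h3
  rw [ho] at h4
  have h5 : 3 ∣ i := by
    refine Nat.Coprime.dvd_of_dvd_mul_right ?_ h4
    exact Nat.Coprime.pow_right _ (by norm_num)
  obtain ⟨j, rfl⟩ := h5
  have h6 : σ ^ 3 = 1 := by
    rw [← ho, pow_orderOf_eq_one]
  rw [← hi, pow_mul, h6, one_pow, Perm.one_apply]

/-- a group of permutations fixing the points of `S` -/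
theorem card_dvd_of_fix {E : Subgroup (Perm α)} {S : Finset α} (h : ∀ e ∈ E, ∀ x ∈ S, e x = x) :
    Nat.card E ∣ (Fintype.card α - S.card).factorial := by
  classical
  let p : α → Prop := fun x => x ∉ S
  have hle : E ≤ (Perm.ofSubtype (p := p)).range := by
    intro e he
    have h1 : ∀ x, p (e x) ↔ p x := by
      intro x
      constructor
      · intro hx hxS
        apply hx
        rw [h e he x hxS]
        exact hxS
      · intro hx hex
        apply hx
        have h2 := h e⁻¹ (E.inv_mem he) _ hex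
        have h3 : e⁻¹ (e x) = x := e.symm_apply_apply x
        rw [h3] at h2
        rw [h2]
        exact hex
    refine ⟨e.subtypePerm h1, Perm.ofSubtype_subtypePerm h1 ?_⟩
    intro x hx hxS
    exact hx (h e he x hxS)
  have h2 := Subgroup.card_dvd_of_le hle
  rw [Nat.card_congr (MonoidHom.ofInjective Perm.ofSubtype_injective).toEquiv.symm, Nat.card_perm] at h2
  have h3 : Nat.card (Subtype p) = Fintype.card α - S.card := by
    rw [Nat.card_eq_fintype_card, Fintype.card_subtype_compl]
    simp
  rwa [h3] at h2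

/-- an even permutation moving at most three points has cube one -/
theorem cube_of_small {σ : Perm α} (h : σ.support.card ≤ 3) (hs : Perm.sign σ = 1) : σ ^ 3 = 1 := by
  rcases Nat.lt_or_ge σ.support.card 2 with h1 | h1
  · have h2 : σ = 1 := Perm.card_support_le_one.1 (by omega)
    rw [h2, one_pow]
  rcases Nat.lt_or_ge σ.support.card 3 with h2 | h2
  · have h3 : σ.support.card = 2 := by omega
    have h4 := (Perm.card_support_eq_two.1 h3).sign_eq
    rw [h4] at hs
    exact absurd hs (by decide)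
  · have h3 : σ.support.card = 3 := by omega
    have h4 := (card_support_eq_three_iff.1 h3).orderOf
    rw [← h4, pow_orderOf_eq_one]

/-- **Perm part**: a 2-group of order 64 of permutations of 11 letters commuting with two 3-cycles -/
theorem support_eq {E : Subgroup (Perm (Fin 11))} (hE : ∀ e ∈ E, ∃ k, e ^ 2 ^ k = 1) (h64 : 64 ∣ Nat.card E)
    {σ τ : Perm (Fin 11)} (hσ : σ.cycleType = {3}) (hτ : τ.cycleType = {3}) (h1 : ∀ e ∈ E, e * σ = σ * e)
    (h2 : ∀ e ∈ E, e * τ = τ * e) : σ.support = τ.support := by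
  have hS : ∀ e ∈ E, ∀ x ∈ σ.support ∪ τ.support, e x = x := by
    intro e he x hx
    obtain ⟨k, hk⟩ := hE e he
    rcases Finset.mem_union.1 hx with hx | hx
    · exact fix_of_comm hσ (h1 e he) hk hx
    · exact fix_of_comm hτ (h2 e he) hk hx
  have h3 := h64.trans (card_dvd_of_fix hS)
  have c1 : σ.support.card = 3 := by rw [← Perm.sum_cycleType, hσ]; rfl
  have c2 : τ.support.card = 3 := by rw [← Perm.sum_cycleType, hτ]; rfl
  have h4 : (σ.support ∪ τ.support).card ≤ 3 := by
    by_contra hlt
    push Not at hlt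
    rw [Fintype.card_fin] at h3
    have h5 : 64 ∣ Nat.factorial 7 := h3.trans (Nat.factorial_dvd_factorial (by omega))
    revert h5
    decide
  have e1 : σ.support = σ.support ∪ τ.support :=
    Finset.eq_of_subset_of_card_le Finset.subset_union_left (by omega)
  have e2 : τ.support = σ.support ∪ τ.support :=
    Finset.eq_of_subset_of_card_le Finset.subset_union_right (by omega)
  rw [e1, ← e2]

end perm

/-! ### The group -/

section group

variable {G : Type*} [Group G] [Finite G]

/-- the common part: `D ≤ C(a) ∩ C(b)`, `|D| = 128`, `a`, `b` of order 3 -/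
theorem eq_of_two_power (L : MT 11 G) {D : Subgroup G} (hD : IsPGroup 2 D) (hcard : Nat.card D = 128) {a b : G}
    (ha : orderOf a = 3) (hb : orderOf b = 3) (haD : a ∈ centralizer (D : Set G)) (hbD : b ∈ centralizer (D : Set G))
    {k : ℕ} (hk : orderOf (a * b⁻¹) = 2 ^ k) : a = b := by
  have hf2 : Fact (Nat.Prime 2) := ⟨Nat.prime_two⟩
  -- a central involution of `D`
  have : Nontrivial D := by
    rw [← Finite.one_lt_card_iff_nontrivial, hcard]
    norm_num
  have hZ : Nontrivial (center D) := hD.center_nontrivial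
  obtain ⟨z, hz⟩ : ∃ z : center D, orderOf z = 2 := by
    apply exists_prime_orderOf_dvd_card'
    obtain ⟨n, hn⟩ := IsPGroup.iff_card.1 (hD.to_subgroup (center D))
    rw [hn]
    apply dvd_pow_self
    rintro rfl
    rw [pow_zero] at hn
    exact absurd (Finite.one_lt_card_iff_nontrivial.2 hZ) (by omega)
  set t : G := ((z : D) : G) with ht
  have hto : orderOf t = 2 := by rw [ht, Subgroup.orderOf_coe, Subgroup.orderOf_coe, hz]
  have htD : t ∈ D := (z : D).2
  have htc : ∀ d ∈ D, d * t = t * d := fun d hd => congrArg Subtype.val (mem_center_iff.1 z.2 ⟨d, hd⟩)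
  obtain ⟨hs1, hs2⟩ := MT.sq_of_orderOf hto
  obtain ⟨L', hL'⟩ := L.exists_rebase hs1 hs2
  rw [← hL'] at htD htc
  clear_value t
  subst hL'
  -- `D` as a subgroup of `C(t)`
  set D' : Subgroup (centralizer ({L'.t} : Set G)) := D.subgroupOf (centralizer ({L'.t} : Set G)) with hD'
  have hDle : D ≤ centralizer ({L'.t} : Set G) := fun d hd => mem_centralizer_singleton_iff.2 (htc d hd)
  have hD'card : Nat.card D' = 128 := by
    rw [← hcard]
    exact Nat.card_congr (subgroupOfEquivOfLe hDle).toEquiv
  set E : Subgroup (Perm (Fin 11)) := D'.map L'.K.π with hE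
  have hEp : ∀ e ∈ E, ∃ k, e ^ 2 ^ k = 1 := by
    rintro _ ⟨d, hd, rfl⟩
    obtain ⟨k, hk⟩ := hD ⟨(d : G), hd⟩
    refine ⟨k, ?_⟩
    rw [← map_pow]
    have h0 : (d : G) ^ 2 ^ k = 1 := congrArg Subtype.val hk
    have h1 : d ^ 2 ^ k = 1 := Subtype.ext h0
    rw [h1, map_one]
  have hE64 : 64 ∣ Nat.card E := by
    have h1 : Nat.card D' = Nat.card (L'.K.π.subgroupMap D').ker * Nat.card E := by
      have h2 := (L'.K.π.subgroupMap D').ker.card_mul_index
      rw [Subgroup.index_ker, MonoidHom.range_eq_top.2 (L'.K.π.subgroupMap_surjective D'),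
        Nat.card_congr Subgroup.topEquiv.toEquiv] at h2
      exact h2.symm
    have h3 : Nat.card (L'.K.π.subgroupMap D').ker ∣ 2 := by
      rw [← CpAut.Cyc.card_ker L'.K]
      let f : (L'.K.π.subgroupMap D').ker →* L'.K.π.ker :=
        { toFun := fun x => ⟨((x : D') : centralizer ({L'.t} : Set G)), congrArg Subtype.val x.2⟩
          map_one' := rfl
          map_mul' := fun _ _ => rfl }
      refine Subgroup.card_dvd_of_injective f ?_
      intro x y hxy
      have h4 : (((x : D') : centralizer ({L'.t} : Set G))) = ((y : D') : centralizer ({L'.t} : Set G)) :=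
        congrArg (fun w : L'.K.π.ker => (w : centralizer ({L'.t} : Set G))) hxy
      exact Subtype.ext (Subtype.ext h4)
    rw [hD'card] at h1
    rcases (Nat.dvd_prime Nat.prime_two).1 h3 with h | h <;> rw [h] at h1 <;> omega
  -- the two elements
  have key : ∀ w : G, orderOf w = 3 → w ∈ centralizer (D : Set G) → ∃ hw : L'.t * w = w * L'.t,
      (L'.K.π (xc hw)).cycleType = {3} ∧ ∀ e ∈ E, e * L'.K.π (xc hw) = L'.K.π (xc hw) * e := by
    intro w hw hwD
    have h1 : L'.t * w = w * L'.t := mem_centralizer_iff.1 hwD _ htD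
    refine ⟨h1, ?_, ?_⟩
    · have h2 : 128 ∣ nn w L'.t := by
        rw [← hcard]
        refine card_dvd_of_le ?_
        intro d hd
        refine ⟨mem_centralizer_singleton_iff.2 ?_, hDle hd⟩
        exact mem_centralizer_iff.1 hwD d hd
      rcases Types.cases L' hw h1 with h | h | h
      · exact h.1
      · rw [h.2] at h2
        omega
      · rw [h.2] at h2
        omega
    · rintro _ ⟨d, hd, rfl⟩
      rw [← map_mul, ← map_mul]
      congr 1
      exact Subtype.ext (mem_centralizer_iff.1 hwD (d : G) hd)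
  obtain ⟨h1a, h2a, h3a⟩ := key a ha haD
  obtain ⟨h1b, h2b, h3b⟩ := key b hb hbD
  have hsupp := support_eq hEp hE64 h2a h2b h3a h3b
  -- `π(a b⁻¹)` has order 1
  have h4 : (L'.K.π (xc h1a) * (L'.K.π (xc h1b))⁻¹) ^ 3 = 1 := by
    apply cube_of_small
    · have h5 : (L'.K.π (xc h1a) * (L'.K.π (xc h1b))⁻¹).support ⊆ (L'.K.π (xc h1a)).support := by
        refine (Perm.support_mul_le _ _).trans ?_
        rw [Perm.support_inv, ← hsupp]
        exact le_of_eq (sup_idem _)
      refine (Finset.card_le_card h5).trans ?_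
      rw [← Perm.sum_cycleType, h2a]
      decide
    · rw [map_mul, map_inv, Perm.mem_alternatingGroup.1 (L'.K.mem_alternating _),
        Perm.mem_alternatingGroup.1 (L'.K.mem_alternating _)]
      decide
  have h6 : (xc h1a * (xc h1b)⁻¹) ^ 2 ^ k = 1 := by
    apply Subtype.ext
    show (a * b⁻¹) ^ 2 ^ k = 1
    rw [← hk, pow_orderOf_eq_one]
  have h7 : L'.K.π (xc h1a) * (L'.K.π (xc h1b))⁻¹ = 1 := by
    rw [← orderOf_eq_one_iff]
    have e1 := orderOf_dvd_of_pow_eq_one h4
    have e2 : orderOf (L'.K.π (xc h1a) * (L'.K.π (xc h1b))⁻¹) ∣ 2 ^ k := by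
      apply orderOf_dvd_of_pow_eq_one
      rw [← map_inv, ← map_mul, ← map_pow, h6, map_one]
    have e3 : Nat.Coprime 3 (2 ^ k) := Nat.Coprime.pow_right _ (by norm_num)
    exact Nat.dvd_one.1 (e3 ▸ Nat.dvd_gcd e1 e2)
  have h8 : xc h1a = xc h1b :=
    L'.K.odd_lift_unique (n := 3) (by decide) (xc_cube ha h1a) (xc_cube hb h1b) (mul_inv_eq_one.1 h7)
  exact congrArg Subtype.val h8

/-- **`p = 2`** -/
theorem imc_two [Fact (Nat.Prime 2)] (L : MT 11 G) (hcard : Nat.card G = 51765179004000000) {u : G}
    (hu : orderOf u = 3) (hC : Nat.card (centralizer ({u} : Set G)) = 2694384000) :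
    Cfsg.Agent.H625.SylConst.IMC 2 G := by
  have hfac : (2694384000 : ℕ).factorization 2 = 7 := by
    rw [show (2694384000 : ℕ) = 2 ^ 7 * 21049875 by norm_num, Nat.factorization_mul (by norm_num) (by norm_num),
      Finsupp.add_apply, Nat.factorization_eq_zero_of_not_dvd (by norm_num : ¬ 2 ∣ 21049875), add_zero,
      Nat.prime_two.factorization_pow, Finsupp.single_eq_same]
  refine H794.Imc.imc_of_RD' u (by rw [hu]; norm_num) ?_ ?_
  · have h1 := (centralizer ({u} : Set G)).card_mul_index
    rw [hC, hcard] at h1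
    have h2 : (centralizer ({u} : Set G)).index = 19212250 := by omega
    rw [h2]
    norm_num
  · intro D hD hDu hDcard a b ha hb hua hub ⟨k, hk⟩
    rw [hC, hfac] at hDcard
    obtain ⟨g, hg⟩ := isConj_iff.1 hua
    obtain ⟨g', hg'⟩ := isConj_iff.1 hub
    exact eq_of_two_power L hD (by rw [hDcard]; norm_num) (by rw [← hg]; exact (MulEquiv.orderOf_eq (MulAut.conj g) u).trans hu)
      (by rw [← hg']; exact (MulEquiv.orderOf_eq (MulAut.conj g') u).trans hu) ha hb hk

end group

end Cfsg.Agent.H300.IMCLyTwo
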