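import Cfsg.Agent.H300.QuatB
import Cfsg.Agent.Cit.LemmaB
import Cfsg.Agent.Cit.Nil.Defs

/-!
# `C_X(A)` with quaternion Sylow 2-subgroups: the dichotomy (helper300, for S3160)

`QuatC.main` : see `QuatB`.
-/

set_option autoImplicit false
set_option linter.style.haveILetI false
set_option linter.unusedSectionVars false

namespace Cfsg.Agent.H300.QuatC

open Subgroup Cfsg Cfsg.Agent.Cit Cfsg.Agent.SectRankFour.OutAb Cfsg.Agent.H300.D8Base Cfsg.Agent.H300.QuatB
open Cfsg.Agent.Cit.Nil (NilK NilOm)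

universe u v

variable {X : Type u} [Group X] [Finite X] {A : Subgroup X}

/-- the reduction to `J`: `H976.TightQ.red` without tight embedding -/
theorem red (H : Subgroup X)
    (hQ : ∀ S : Sylow 2 ↥H, ∃ n : ℕ, Nonempty (↥(S : Subgroup ↥H) ≃* QuaternionGroup (2 ^ (n + 1)))) :
    ∃ z ∈ H, orderOf z = 2 ∧
      (∃ S : Sylow 2 ↥(H ⊓ centralizer ({z} : Set X)), ∃ n : ℕ,
        Nonempty (↥(S : Subgroup ↥(H ⊓ centralizer ({z} : Set X))) ≃* QuaternionGroup (2 ^ (n + 1)))) ∧
      (∀ t ∈ H ⊓ centralizer ({z} : Set X), orderOf t = 2 → t = z) := by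
  haveI : Fact (Nat.Prime 2) := ⟨Nat.prime_two⟩
  obtain ⟨S⟩ : Nonempty (Sylow 2 ↥H) := inferInstance
  obtain ⟨n, ⟨e⟩⟩ := hQ S
  obtain ⟨y, hyS, hy⟩ := CharDeep.QuatSylowBasic.exists_of_equiv e
  set z : X := (y : X) with hzdef
  have hz : orderOf z = 2 := by rw [hzdef, Subgroup.orderOf_coe]; exact hy
  have hzH : z ∈ H := y.2
  have hyc : ∀ s ∈ (S : Subgroup ↥H), s * y = y * s := by
    intro s hs
    have h1 : orderOf (s * y * s⁻¹) = 2 := by
      have := (MulAut.conj s).orderOf_eq y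
      rw [← hy]; exact this
    have h2 := CharDeep.QuatSylowBasic.unique_of_equiv e (s * y * s⁻¹) y
      ((S : Subgroup ↥H).mul_mem ((S : Subgroup ↥H).mul_mem hs hyS) ((S : Subgroup ↥H).inv_mem hs)) hyS h1 hy
    rw [mul_inv_eq_iff_eq_mul] at h2
    exact h2
  refine ⟨z, hzH, hz, ?_, ?_⟩
  · set J : Subgroup X := H ⊓ centralizer ({z} : Set X) with hJ
    have hle : (S : Subgroup ↥H) ≤ J.subgroupOf H := by
      intro s hs
      rw [mem_subgroupOf]
      exact mem_inf.2 ⟨s.2, mem_centralizer_singleton_iff.2 (congrArg Subtype.val (hyc s hs))⟩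
    have hSG : (S : Subgroup ↥H).map H.subtype ≤ J := by
      rintro _ ⟨s, hs, rfl⟩
      exact mem_subgroupOf.1 (hle hs)
    have h2 : IsPGroup 2 (((S : Subgroup ↥H).map H.subtype).subgroupOf J) :=
      (S.isPGroup'.map H.subtype).comap_subtype
    have h3 : ¬ 2 ∣ (((S : Subgroup ↥H).map H.subtype).subgroupOf J).index := by
      intro h
      apply S.not_dvd_index
      refine h.trans ?_
      have h4 : (((S : Subgroup ↥H).map H.subtype).subgroupOf H).index = (S : Subgroup ↥H).index := by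
        congr 1
        exact Subgroup.comap_map_eq_self_of_injective H.subtype_injective _
      rw [← h4]
      exact Dvd.intro _ (relIndex_mul_relIndex _ _ _ hSG inf_le_left)
    refine ⟨h2.toSylow h3, n, ⟨?_⟩⟩
    exact ((subgroupOfEquivOfLe hSG).trans
      ((S : Subgroup ↥H).equivMapOfInjective _ H.subtype_injective).symm).trans e
  · intro t htJ ht
    obtain ⟨htH, htc⟩ := mem_inf.1 htJ
    rw [mem_centralizer_singleton_iff] at htc
    set a : ↥H := ⟨t, htH⟩
    have ha : orderOf a = 2 := by rw [← ht, Subgroup.orderOf_mk]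
    have hcom : Commute a y := Subtype.ext htc
    have hp : IsPGroup 2 ↥(Subgroup.closure ({a, y} : Set ↥H)) := by
      have hcm : ∀ u ∈ ({a, y} : Set ↥H), ∀ v ∈ ({a, y} : Set ↥H), u * v = v * u := by
        rintro u (rfl | rfl) v (rfl | rfl)
        · rfl
        · exact hcom
        · exact hcom.symm
        · rfl
      intro x
      refine ⟨1, ?_⟩
      have hx := x.2
      have key : ∀ w ∈ Subgroup.closure ({a, y} : Set ↥H), w ^ 2 = 1 := by
        intro w hw
        haveI : IsMulCommutative ↥(Subgroup.closure ({a, y} : Set ↥H)) :=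
          Subgroup.isMulCommutative_closure hcm
        induction hw using Subgroup.closure_induction with
        | mem w hw =>
          rcases hw with rfl | rfl
          · rw [← ha]; exact pow_orderOf_eq_one _
          · rw [← hy]; exact pow_orderOf_eq_one _
        | one => exact one_pow _
        | mul u v hu hv hu2 hv2 =>
          have huv : Commute u v := by
            have := mul_comm' (⟨u, hu⟩ : ↥(Subgroup.closure ({a, y} : Set ↥H))) ⟨v, hv⟩
            exact congrArg Subtype.val this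
          rw [huv.mul_pow, hu2, hv2, one_mul]
        | inv u hu hu2 => rw [inv_pow, hu2, inv_one]
      exact Subtype.ext (key x.1 hx)
    obtain ⟨T, hT⟩ := hp.exists_le_sylow
    obtain ⟨m, ⟨e'⟩⟩ := hQ T
    have h5 := CharDeep.QuatSylowBasic.unique_of_equiv e' a y
      (hT (Subgroup.subset_closure (by simp))) (hT (Subgroup.subset_closure (by simp))) ha hy
    exact congrArg Subtype.val h5

theorem nil_cls {J : Subgroup X} (h : NilK J) : NilOm (cls J) := by
  rintro _ ⟨g, rfl⟩ Q hQ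
  have h1 : Syl (cj g⁻¹ Q) J := by
    have := hQ.cj g⁻¹
    rwa [cj_inv_cj] at this
  have h2 := cj_mono g (h _ h1)
  rwa [cj_sup, ← OO_cj, cj_cj_inv] at h2

theorem two_cls {M : Subgroup X} (h : TyTwo M) : ∀ K ∈ cls M, TyTwo K := by
  rintro _ ⟨g, rfl⟩
  exact OddHalf.D7Out.OddGen.OddGen.conj h g

/-- `O²(J)` -/
def OdT (J : Subgroup X) : Subgroup X := closure {c | c ∈ J ∧ Odd (orderOf c)}

theorem OdT_le (J : Subgroup X) : OdT J ≤ J := (closure_le _).2 fun _ h => h.1

theorem mem_OdT {J : Subgroup X} {c : X} (h : c ∈ J) (ho : Odd (orderOf c)) : c ∈ OdT J := subset_closure ⟨h, ho⟩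

theorem tyTwo_OdT (J : Subgroup X) : TyTwo (OdT J) :=
  (closure_le _).2 fun _ h => subset_closure ⟨mem_OdT h.1 h.2, h.2⟩

theorem norm_OdT (J : Subgroup X) : normalizer (J : Set X) ≤ normalizer (OdT J : Set X) := by
  rw [le_normalizer_iff]
  intro y hy k hk
  have h1 : OdT J ≤ (OdT J).comap (MulAut.conj y).toMonoidHom := by
    refine (closure_le _).2 ?_
    rintro c ⟨hc, ho⟩
    change y * c * y⁻¹ ∈ OdT J
    refine mem_OdT ((mem_normalizer_iff.1 hy c).1 hc) ?_
    have := (MulAut.conj y).orderOf_eq c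
    rw [MulAut.conj_apply] at this
    rwa [this]
  exact h1 hk

/-- if `O²(J)` has odd order then `J` is 2-nilpotent -/
theorem nilK_of_odd {J : Subgroup X} (h : ¬ 2 ∣ Nat.card ↥(OdT J)) : NilK J := by
  haveI : Fact (Nat.Prime 2) := ⟨Nat.prime_two⟩
  intro Q hQ
  have hle : OdT J ≤ OO J := le_OO (OdT_le J) (le_normalizer.trans (norm_OdT J)) h
  have hn : ((OdT J).subgroupOf J).Normal :=
    (normal_subgroupOf_iff_le_normalizer (OdT_le J)).2 (le_normalizer.trans (norm_OdT J))
  have h2 : IsPGroup 2 (↥J ⧸ (OdT J).subgroupOf J) := by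
    intro q
    obtain ⟨j, rfl⟩ := QuotientGroup.mk_surjective q
    obtain ⟨k, m, hm, hkm⟩ := Nat.exists_eq_two_pow_mul_odd (n := orderOf j) (orderOf_pos j).ne'
    refine ⟨k, ?_⟩
    rw [← QuotientGroup.mk_pow, QuotientGroup.eq_one_iff]
    rw [mem_subgroupOf]
    refine mem_OdT (j ^ 2 ^ k).2 ?_
    rw [orderOf_coe, orderOf_pow' j (by positivity), hkm, Nat.gcd_eq_right (Dvd.intro _ rfl),
      Nat.mul_div_cancel_left _ (by positivity)]
    exact hm
  have h3 : (OdT J ⊔ Q).relIndex J ∣ (OdT J).relIndex J := relIndex_dvd_of_le_left J le_sup_left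
  have h4 : (OdT J ⊔ Q).relIndex J ∣ Q.relIndex J := relIndex_dvd_of_le_left J le_sup_right
  obtain ⟨k, hk⟩ := IsPGroup.iff_card.1 h2
  have h5 : (OdT J).relIndex J = 2 ^ k := hk
  rw [h5] at h3
  obtain ⟨l, -, hl⟩ := (Nat.dvd_prime_pow Nat.prime_two).1 h3
  have h6 : (OdT J ⊔ Q).relIndex J = 1 := by
    rcases Nat.eq_zero_or_pos l with rfl | hl0
    · simpa using hl
    · exfalso
      apply hQ.2.2
      rw [hl] at h4
      exact (dvd_pow_self 2 hl0.ne').trans h4
  exact (relIndex_eq_one.1 h6).trans (sup_le_sup_right hle Q)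

/-- the conclusion -/
def Alt (A : Subgroup X) (z : X) : Prop :=
  (∃ M : Subgroup X, Cit.One (cls M) ∧ ((∀ K ∈ cls M, TyTwo K) ∨ NilOm (cls M))) ∨
  ∃ B : Subgroup X, B ≤ centralizer (A : Set X) ⊓ centralizer {z} ∧
    (∀ c ∈ centralizer ({z} : Set X), ∀ b ∈ B, c * b * c⁻¹ ∈ B) ∧
    (∀ c ∈ centralizer ({z} : Set X), ∀ j ∈ centralizer (A : Set X) ⊓ centralizer {z}, c * j * c⁻¹ * j⁻¹ ∈ B) ∧
    ∀ P : Sylow 2 ↥B, IsCyclic ↥(P : Subgroup ↥B)

/-- **The dichotomy.** -/
theorem main (hA : OutComm ↥A) (hZ : Odd (Nat.card ↥(center ↥A))) {F : Type v} [Field F]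
    [Fintype F] (hF : Odd (Fintype.card F)) (e : ↥A ⧸ center ↥A ≃* Matrix.ProjectiveSpecialLinearGroup (Fin 2) F)
    (hD : D8 ↥A)
    (hst : ∀ v ∈ centralizer (A : Set X), orderOf v = 2 → centralizer {v} ≤ normalizer (A : Set X))
    (hQ : ∀ S : Sylow 2 ↥(centralizer (A : Set X)), ∃ n : ℕ,
      Nonempty (↥(S : Subgroup ↥(centralizer (A : Set X))) ≃* QuaternionGroup (2 ^ (n + 1)))) :
    ∃ z, Zed A z ∧ Alt A z := by
  haveI : Fact (Nat.Prime 2) := ⟨Nat.prime_two⟩
  obtain ⟨z, hzA, hz, hQJ, hu⟩ := red (centralizer (A : Set X)) hQ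
  have hZed : Zed A z := ⟨hz, hzA, hst, hu⟩
  refine ⟨z, hZed, ?_⟩
  set J := centralizer (A : Set X) ⊓ centralizer ({z} : Set X) with hJ
  have hzJ : z ∈ J := mem_inf.2 ⟨hzA, mem_centralizer_singleton_iff.2 rfl⟩
  have hJz : J ≤ centralizer ({z} : Set X) := inf_le_right
  have hJn : centralizer ({z} : Set X) ≤ normalizer (J : Set X) := hZed.le_normJ
  -- the general step
  have step : ∀ M : Subgroup X, M ≤ J → z ∈ M → centralizer ({z} : Set X) ≤ normalizer (M : Set X) →
      (∃ S : Sylow 2 ↥M, ∃ n : ℕ, Nonempty (↥(S : Subgroup ↥M) ≃* QuaternionGroup (2 ^ (n + 1)))) →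
      ((∀ K ∈ cls M, TyTwo K) ∨ NilOm (cls M)) → Alt A z := by
    intro M hMJ hzM hMn hQM hM
    obtain ⟨hyp, hzz⟩ := hyp_of_class z hz M hzM
      ((normal_subgroupOf_iff_le_normalizer (hMJ.trans hJz)).2 hMn).isSubnormal hQM (fun t ht => hu t (hMJ ht))
      (fun u hu => Or.inl (mem_normalizer_iff_cj.1 (hMn hu))) (fun y _ g _ _ h => hMn h)
    by_cases h1 : Cit.One (cls M)
    · exact Or.inl ⟨M, h1, hM⟩
    · obtain ⟨g, a, k, h2, h3, h4, h5, h6⟩ := exists_a hZed hA hZ hyp hzz hMn h1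
      exact Or.inr (exists_B hZed hA hZ hF e hD h2 h3 h4 h5 h6)
  by_cases hN : NilK J
  · exact step J le_rfl hzJ hJn hQJ (Or.inr (nil_cls hN))
  · have h2 : 2 ∣ Nat.card ↥(OdT J) := by
      by_contra h
      exact hN (nilK_of_odd h)
    obtain ⟨t, ht⟩ := exists_prime_orderOf_dvd_card' (G := ↥(OdT J)) 2 h2
    have htz : (t : X) = z := hu t (OdT_le J t.2) (by rw [orderOf_coe, ht])
    have hzM : z ∈ OdT J := htz ▸ t.2
    refine step (OdT J) (OdT_le J) hzM (hJn.trans (norm_OdT J)) ?_ (Or.inl (two_cls (tyTwo_OdT J)))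
    let Q : Sylow 2 ↥(OdT J) := default
    have huM : ∀ x : ↥(OdT J), x ≠ 1 → x ^ 2 = 1 → (x : X) = z := by
      intro x hx hx2
      refine hu x (OdT_le J x.2) ?_
      rw [orderOf_coe]
      exact orderOf_eq_prime hx2 hx
    have hU : Solvable.UniqueOrderP.UniqueP 2 ↥(Q : Subgroup ↥(OdT J)) := by
      intro x y hx hx2 hy2
      by_cases hy : y = 1
      · rw [hy]; exact one_mem _
      · have h3 : x = y := by
          apply Subtype.ext
          apply Subtype.ext
          rw [huM x (fun h => hx (Subtype.ext h)) (congrArg Subtype.val hx2),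
            huM y (fun h => hy (Subtype.ext h)) (congrArg Subtype.val hy2)]
        rw [h3]; exact mem_zpowers y
    rcases Solvable.UniqueOrderP.cyclic_or_quaternion Q.isPGroup' hU with h3 | ⟨-, m, hm, h3⟩
    · exfalso
      have h4 : (⊤ : Subgroup ↥(OdT J)) ≤ closure (OddHalf.D7Out.OddGen.oddElts ↥(OdT J)) := by
        have h5 := OddHalf.D7Out.OddGen.OddGen.comap (tyTwo_OdT J) (OdT J).subtype (OdT J).subtype_injective
          (by rw [range_subtype])
        have h6 : (OdT J).comap (OdT J).subtype = ⊤ := by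
          ext x; simp
        rw [h6] at h5
        exact h5.le_oddElts
      have h5 := OddHalf.D7Out.OddGen.eq_one_of_cyclic Q h3 (x := t) (h4 (mem_top _)) (k := 1)
        (by rw [pow_one, ← ht]; exact pow_orderOf_eq_one _)
      rw [h5, orderOf_one] at ht
      omega
    · refine ⟨Q, m - 1, ?_⟩
      rwa [Nat.sub_add_cancel (by omega)]

end Cfsg.Agent.H300.QuatC
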